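import Groth.Agent.CohBC.Rpush
import Groth.Agent.QCoh.GodCx

/-!
# Godement resolutions over a square; flat base change in degree zero
-/

set_option backward.isDefEq.respectTransparency false
set_option backward.isDefEq.respectTransparency.types false
set_option linter.style.haveILetI false
set_option autoImplicit false

universe u

open CategoryTheory CategoryTheory.Limits AlgebraicGeometry TopologicalSpace Opposite TensorProduct

namespace Groth.Agent.CohBC

open Groth.Agent.QCoh

variable {X S X' S' : Scheme.{u}}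

/-- The Godement resolution as a complex of modules. -/
noncomputable def godSh (M : X.Modules) : CochainComplex X.Modules ℕ :=
  CochainComplex.of (fun n => God (godQ M n)) (fun n => godπ M n ≫ toGod (godQ M (n + 1)))
    fun n => by
      simp only [Category.assoc]
      rw [← Category.assoc (toGod (godQ M (n + 1))), toGod_godπ, zero_comp, comp_zero]

theorem godSh_d (M : X.Modules) (n : ℕ) :
    (godSh M).d n (n + 1) = godπ M n ≫ toGod (godQ M (n + 1)) := by
  simp only [godSh, CochainComplex.of_d]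

theorem godSh_exact (M : X.Modules) (n : ℕ) (w : toGod (godQ M n) ≫ (godSh M).d n (n + 1) = 0) :
    (ShortComplex.mk (toGod (godQ M n)) ((godSh M).d n (n + 1)) w).Exact := by
  let φ : godSES M n ⟶ ShortComplex.mk (toGod (godQ M n)) ((godSh M).d n (n + 1)) w :=
    { τ₁ := 𝟙 _
      τ₂ := 𝟙 _
      τ₃ := toGod (godQ M (n + 1))
      comm₁₂ := (Category.id_comp _).trans (Category.comp_id _).symm
      comm₂₃ := (Category.id_comp _).trans (godSh_d M n) }
  haveI : Epi φ.τ₁ := inferInstanceAs (Epi (𝟙 _))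
  haveI : IsIso φ.τ₂ := inferInstanceAs (IsIso (𝟙 _))
  haveI : Mono φ.τ₃ := inferInstanceAs (Mono (toGod _))
  exact (ShortComplex.exact_iff_of_epi_of_isIso_of_mono φ).1 (godSES_shortExact M n).exact

theorem toGod_godSh_d (M : X.Modules) (n : ℕ) : toGod (godQ M n) ≫ (godSh M).d n (n + 1) = 0 := by
  rw [godSh_d, ← Category.assoc, toGod_godπ, zero_comp]

theorem isRes_godSh (M : X.Modules) : IsRes M (godSh M) (toGod M) where
  flasque n := isFlasqueMod_God _
  mono := inferInstance
  zero := toGod_godSh_d M 0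
  exact₀ := godSh_exact M 0 _
  exact_succ n := by
    let φ : ShortComplex.mk ((godSh M).d n (n + 1)) ((godSh M).d (n + 1) (n + 2)) ((godSh M).d_comp_d _ _ _) ⟶
        ShortComplex.mk (toGod (godQ M (n + 1))) ((godSh M).d (n + 1) (n + 2)) (toGod_godSh_d M (n + 1)) :=
      { τ₁ := godπ M n
        τ₂ := 𝟙 _
        τ₃ := 𝟙 _
        comm₁₂ := (godSh_d M n).symm.trans (Category.comp_id _).symm
        comm₂₃ := (Category.id_comp _).trans (Category.comp_id _).symm }
    haveI : Epi φ.τ₁ := inferInstanceAs (Epi (cokernel.π _))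
    haveI : IsIso φ.τ₂ := inferInstanceAs (IsIso (𝟙 _))
    haveI : Mono φ.τ₃ := inferInstanceAs (Mono (𝟙 _))
    exact (ShortComplex.exact_iff_of_epi_of_isIso_of_mono φ).2 (godSh_exact M (n + 1) _)

variable (f : X ⟶ S) (g : S' ⟶ S) (g' : X' ⟶ X) (f' : X' ⟶ S')

/-- The square of Godement resolutions. -/
noncomputable def godSquare (sq : IsPullback g' f' f g) {M : X.Modules} (hM : Coh.IsQCoh M) :
    ResSquare f g g' f' ((Scheme.Modules.pullbackPushforwardAdjunction g').unit.app M) where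
  sq := sq
  K := godSh M
  L := godSh ((Scheme.Modules.pullback g').obj M)
  a := toGod M
  a' := toGod _
  hK := isRes_godSh _
  hL := isRes_godSh _
  qM := hM
  qM' := isQCoh_pullback g' hM
  hη := hη_unit g' hM
  ψ :=
    { f := fun n => godMap g' (godQMap g' ((Scheme.Modules.pullbackPushforwardAdjunction g').unit.app M) n)
      comm' := fun p q hpq => by
        obtain rfl : p + 1 = q := hpq
        show godMap g' _ ≫ (Scheme.Modules.pushforward g').map ((godSh _).d p (p + 1)) =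
          (godSh M).d p (p + 1) ≫ godMap g' _
        rw [godSh_d, godSh_d, Category.assoc, toGod_godMap, ← Category.assoc (godπ M p), godπ_godQMap,
          Category.assoc, Functor.map_comp] }
  comm := toGod_godMap g' _

variable [QuasiCompact f] [QuasiSeparated f] [Flat g]

theorem nonempty_flat_baseChange_Rpush [HasInjectiveResolutions X.Modules] [HasInjectiveResolutions X'.Modules]
    (sq : IsPullback g' f' f g) {M : X.Modules} (hM : Coh.IsQCoh M) (i : ℕ) :
    Nonempty ((Scheme.Modules.pullback g).obj ((Coh.Rpush f i).obj M) ≅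
      (Coh.Rpush f' i).obj ((Scheme.Modules.pullback g').obj M)) := by
  haveI : QuasiCompact f' := MorphismProperty.of_isPullback sq inferInstance
  haveI : QuasiSeparated f' := MorphismProperty.of_isPullback sq inferInstance
  let D := godSquare f g g' f' sq hM
  haveI := isIso_transpose_αSh D i
  obtain ⟨e⟩ := nonempty_hSh_iso_Rpush f hM D.hK i
  obtain ⟨e'⟩ := nonempty_hSh_iso_Rpush f' D.qM' D.hL i
  exact ⟨(Scheme.Modules.pullback g).mapIso e.symm ≪≫
    asIso (((Scheme.Modules.pullbackPushforwardAdjunction g).homEquiv _ _).symm (αSh D i)) ≪≫ e'⟩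

/-- Flat base change in degree zero. -/
theorem isIso_bc0 (sq : IsPullback g' f' f g) {M : X.Modules} (hM : Coh.IsQCoh M) :
    IsIso (CohBC.bc0 f g f' g' sq.w M) := by
  let D := godSquare f g g' f' sq hM
  let M' := (Scheme.Modules.pullback g').obj M
  refine isIso_transpose g _ (isQCoh_pushforward f hM) fun U hU W hW hle => ?_
  letI : Algebra Γ(S, U) Γ(S', W) := (g.appLE U W hle).hom.toAlgebra
  haveI : Module.Flat Γ(S, U) Γ(S', W) := g.flat_appLE hU hW hle
  let Q := (Scheme.Modules.pushforward f').obj M'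
  letI : Module Γ(S, U) Γ(Q, W) := Module.compHom _ (g.appLE U W hle).hom
  haveI : IsScalarTower Γ(S, U) Γ(S', W) Γ(Q, W) := .of_algebraMap_smul fun _ _ => rfl
  show ∀ l : Γ((Scheme.Modules.pushforward f).obj M, U) →ₗ[Γ(S, U)] Γ(Q, W),
    (∀ x, l x = secMap g (CohBC.bc0Adj f g f' g' sq.w M) hle x) → IsBaseChange Γ(S', W) l
  intro l hl
  obtain ⟨μ, hμ⟩ := D.exists_bc hU hW hle (fun _ => rfl) 0
  have key : ∀ {Y T : Scheme.{u}} (p : Y ⟶ T) {N : Y.Modules} {K : CochainComplex Y.Modules ℕ}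
      {a : N ⟶ K.X 0} (hK : IsRes N K a) (O : T.Opens),
      ∃ e : Γ((Scheme.Modules.pushforward p).obj N, O) ≃ₗ[Γ(T, O)] (topCx p K O).homology 0,
        ∀ x, ∃ z : (topCx p K O).cycles 0, (show Γ(K.X 0, p ⁻¹ᵁ O) from (topCx p K O).iCycles 0 z) =
          a.app (p ⁻¹ᵁ O) x ∧ e x = (topCx p K O).homologyπ 0 z := by
    intro Y T p N K a hK O
    letI := secMod p (le_rfl : p ⁻¹ᵁ O ≤ p ⁻¹ᵁ O) (K.X 0)
    let a₀ : ModuleCat.of Γ(T, O) Γ((Scheme.Modules.pushforward p).obj N, O) ⟶ (topCx p K O).X 0 :=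
      ModuleCat.ofHom (X := Γ((Scheme.Modules.pushforward p).obj N, O)) (Y := Γ(K.X 0, p ⁻¹ᵁ O))
        { toFun := fun x => a.app (p ⁻¹ᵁ O) (show Γ(N, p ⁻¹ᵁ O) from x)
          map_add' := map_add (a.app (p ⁻¹ᵁ O)).hom
          map_smul' := fun r x => (Scheme.Modules.Hom.app_smul a _ _).trans
            (topCx_smul p K O 0 r (show (topCx p K O).X 0 from a.app (p ⁻¹ᵁ O) x)).symm }
    have h0 : a₀ ≫ (topCx p K O).d 0 1 = 0 := by
      refine ModuleCat.hom_ext ?_
      apply DFunLike.ext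
      intro x
      exact congr(($(hK.zero)).app (p ⁻¹ᵁ O) (show Γ(N, p ⁻¹ᵁ O) from x))
    let k := (topCx p K O).liftCycles a₀ 1 (by simp) h0
    have hk : ∀ x, (topCx p K O).iCycles 0 (k x) = a₀ x := fun x =>
      congr($((topCx p K O).liftCycles_i a₀ 1 (by simp) h0) x)
    haveI := (topCx p K O).isIso_homologyπ 0 0 (by simp) ((topCx p K O).shape 0 0 (by simp))
    have hb : Function.Bijective (k ≫ (topCx p K O).homologyπ 0) := by
      show Function.Bijective ((topCx p K O).homologyπ 0 ∘ k)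
      refine ((ConcreteCategory.isIso_iff_bijective ((topCx p K O).homologyπ 0)).1 inferInstance).comp ⟨fun x y hxy => ?_, fun z => ?_⟩
      · exact hK.aug_injective _ ((hk x).symm.trans ((congrArg _ hxy).trans (hk y)))
      · obtain ⟨x, hx⟩ := hK.exists_aug (show Γ(K.X 0, p ⁻¹ᵁ O) from (topCx p K O).iCycles 0 z)
          (congr($((topCx p K O).iCycles_d 0 1) z))
        exact ⟨x, (ModuleCat.mono_iff_injective _).1 inferInstance ((hk x).trans hx)⟩
    exact ⟨LinearEquiv.ofBijective (k ≫ (topCx p K O).homologyπ 0).hom hb, fun x => ⟨k x, hk x, rfl⟩⟩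
  obtain ⟨eU, heU⟩ := key f D.hK U
  obtain ⟨eW, heW⟩ := key f' D.hL W
  refine IsBaseChange.of_equiv ((LinearEquiv.baseChange Γ(S, U) Γ(S', W) _ _ eU).trans
    (μ.toLinearEquiv.trans eW.symm)) fun x => ?_
  rw [hl]
  obtain ⟨z, hz, hzx⟩ := heU x
  obtain ⟨z', hz', hμz⟩ := hμ z
  show eW.symm (μ.toLinearEquiv ((1 : Γ(S', W)) ⊗ₜ[Γ(S, U)] eU x)) = _
  rw [LinearEquiv.symm_apply_eq, hzx]
  obtain ⟨z'', hz'', hzy⟩ := heW (secMap g (CohBC.bc0Adj f g f' g' sq.w M) hle x)
  rw [hzy]
  refine hμz.trans (congrArg _ ((ModuleCat.mono_iff_injective ((topCx f' D.L W).iCycles 0)).1 inferInstance ?_))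
  refine hz'.trans (Eq.trans ?_ hz''.symm)
  rw [hz]
  let u := (Scheme.Modules.pullbackPushforwardAdjunction g').unit.app M
  let y : Γ(M', g' ⁻¹ᵁ (f ⁻¹ᵁ U)) := u.app (f ⁻¹ᵁ U) x
  have e : g' ⁻¹ᵁ (f ⁻¹ᵁ U) = f' ⁻¹ᵁ (g ⁻¹ᵁ U) := by
    rw [← Scheme.Hom.comp_preimage, ← Scheme.Hom.comp_preimage, sq.w]
  show secMap g' (godMap g' u) (D.le_pre' hle) ((toGod M).app (f ⁻¹ᵁ U) x) =
    (toGod M').app (f' ⁻¹ᵁ W) (M'.presheaf.map (homOfLE (f'.preimage_mono hle)).op
      (M'.presheaf.map (eqToHom e.symm).op y))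
  rw [QCoh.map_map, map_app_comm]
  refine congrArg ((God M').presheaf.map _) ?_
  exact congr(($(toGod_godMap g' u)).app (f ⁻¹ᵁ U) x)

end Groth.Agent.CohBC
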