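import Groth.Agent.CohBC.Main
import Groth.Prelude.Def_CohBC2

/-!
# Higher direct images through flasque resolutions; flat base change
-/

set_option backward.isDefEq.respectTransparency false
set_option backward.isDefEq.respectTransparency.types false
set_option linter.style.haveILetI false
set_option autoImplicit false

universe u

open CategoryTheory CategoryTheory.Limits AlgebraicGeometry TopologicalSpace Opposite HomologicalComplex

namespace Groth.Agent.CohBC

open Groth.Agent.QCoh

variable {X S X' S' : Scheme.{u}}

theorem isRes_injectiveResolution {M : X.Modules} (I : InjectiveResolution M) :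
    IsRes M I.cocomplex (I.ι.f 0) where
  flasque n := haveI := I.injective n; isFlasqueMod_of_injective _
  mono := inferInstance
  zero := RDer.res_ι_d I.cocomplex I.ι
  exact₀ := RDer.res_exact₀ I.cocomplex I.ι
  exact_succ := RDer.res_exact_succ I.cocomplex I.ι

section single

variable {M : X.Modules} {K : CochainComplex X.Modules ℕ} {a : M ⟶ K.X 0} (hK : IsRes M K a)

/-- The augmentation as a morphism of complexes. -/
noncomputable def IsRes.aug : (CochainComplex.single₀ X.Modules).obj M ⟶ K :=
  (CochainComplex.fromSingle₀Equiv _ _).symm ⟨a, hK.zero⟩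

theorem IsRes.aug_f : hK.aug.f 0 = a := CochainComplex.fromSingle₀Equiv_symm_apply_f_zero a hK.zero

theorem IsRes.quasiIso_aug : QuasiIso hK.aug := ⟨fun n => by
  cases n with
  | zero =>
    rw [CochainComplex.quasiIsoAt₀_iff, ShortComplex.quasiIso_iff_of_zeros]
    · haveI := hK.mono
      refine (ShortComplex.exact_and_mono_f_iff_of_iso ?_).2
        (⟨hK.exact₀, hK.mono⟩ : (ShortComplex.mk a (K.d 0 1) hK.zero).Exact ∧ Mono a)
      exact ShortComplex.isoMk (Iso.refl _) (Iso.refl _) (Iso.refl _) (by simp [IsRes.aug_f]) (by simp)
    all_goals first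
      | rfl
      | exact K.shape _ _ (by simp)
  | succ n =>
    rw [quasiIsoAt_iff_exactAt]
    · rw [HomologicalComplex.exactAt_iff' _ n (n + 1) (n + 2) (by simp) (by simp)]
      exact hK.exact_succ n
    · exact CochainComplex.exactAt_succ_single_obj _ _⟩

end single

variable (f : X ⟶ S) (g : S' ⟶ S) (g' : X' ⟶ X) (f' : X' ⟶ S')

theorem hη_unit {M : X.Modules} (hM : Coh.IsQCoh M) (V : X.Opens) (hV : IsAffineOpen V) (V' : X'.Opens)
    (hV' : IsAffineOpen V') (hle : V' ≤ g' ⁻¹ᵁ V) :
    IsBCAt g' ((Scheme.Modules.pullbackPushforwardAdjunction g').unit.app M) V V' hle := by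
  refine isBCAt_of_isIso_transpose g' _ hM hV hV' hle ?_
  have e : ((Scheme.Modules.pullbackPushforwardAdjunction g').homEquiv _ _).symm
      ((Scheme.Modules.pullbackPushforwardAdjunction g').unit.app M) = 𝟙 _ := by
    rw [Adjunction.homEquiv_counit]
    exact (Scheme.Modules.pullbackPushforwardAdjunction g').left_triangle_components M
  erw [e]
  infer_instance

/-- Two flasque resolutions, compared over the identity square. -/
noncomputable def compSquare {M : X.Modules} (hM : Coh.IsQCoh M) {K : CochainComplex X.Modules ℕ}
    {a : M ⟶ K.X 0} (hK : IsRes M K a) (I : InjectiveResolution M) :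
    ResSquare f (𝟙 S) (𝟙 X) f ((Scheme.Modules.pushforwardId X).inv.app M) :=
  haveI := hK.quasiIso_aug
  haveI : ∀ n, Injective (I.cocomplex.X n) := I.injective
  { sq := IsPullback.id_horiz f
    K := K
    L := I.cocomplex
    a := a
    a' := I.ι.f 0
    hK := hK
    hL := isRes_injectiveResolution I
    qM := hM
    qM' := hM
    hη := fun _ hV _ hV' hle => isBCAt_of_isIso_transpose (𝟙 X) _ hM hV hV' hle (isIso_transpose_id M)
    ψ :=
      { f := fun i => (RDer.descToInjectives (𝟙 M) K hK.aug I.cocomplex I.ι).f i ≫
          (Scheme.Modules.pushforwardId X).inv.app (I.cocomplex.X i)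
        comm' := fun i j _ => by
          rw [← Category.assoc, ← Hom.comm, Category.assoc, Category.assoc]
          exact congrArg (_ ≫ ·) ((Scheme.Modules.pushforwardId X).inv.naturality (I.cocomplex.d i j)).symm }
    comm := by
      show a ≫ (RDer.descToInjectives (𝟙 M) K hK.aug I.cocomplex I.ι).f 0 ≫ _ = _
      have h := RDer.ι_descToInjectives_f_zero (𝟙 M) K hK.aug I.cocomplex I.ι
      rw [hK.aug_f, Category.id_comp] at h
      rw [← Category.assoc, h]
      exact (Scheme.Modules.pushforwardId X).inv.naturality (I.ι.f 0) }

/-- Higher direct images are the homology sheaves of any flasque resolution. -/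
theorem nonempty_hSh_iso_Rpush [HasInjectiveResolutions X.Modules] [QuasiCompact f] [QuasiSeparated f]
    {M : X.Modules} (hM : Coh.IsQCoh M) {K : CochainComplex X.Modules ℕ} {a : M ⟶ K.X 0} (hK : IsRes M K a)
    (n : ℕ) : Nonempty (hSh f K n ≅ (Coh.Rpush f n).obj M) := by
  let I := injectiveResolution M
  let D := compSquare f hM hK I
  haveI := isIso_transpose_αSh D n
  haveI : (Scheme.Modules.pushforward (𝟙 S)).IsEquivalence :=
    Functor.isEquivalence_of_iso (Scheme.Modules.pushforwardId S).symm
  let adj := Scheme.Modules.pullbackPushforwardAdjunction (𝟙 S)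
  haveI : IsIso (αSh D n) := by
    rw [← (adj.homEquiv _ _).apply_symm_apply (αSh D n), Adjunction.homEquiv_unit]
    exact IsIso.comp_isIso
  exact ⟨asIso (αSh D n) ≪≫ (Scheme.Modules.pushforwardId S).app _ ≪≫
    (I.isoRightDerivedObj (Scheme.Modules.pushforward f) n).symm⟩

section named

variable [HasInjectiveResolutions X.Modules] [HasInjectiveResolutions X'.Modules]
  [PreservesFiniteLimits (Scheme.Modules.pullback g')]

/-- The map of injective resolutions underlying the base change morphism. -/
noncomputable def bcPsi (M : X.Modules) :
    (injectiveResolution M).cocomplex ⟶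
      ((Scheme.Modules.pushforward g').mapHomologicalComplex _).obj
        (injectiveResolution ((Scheme.Modules.pullback g').obj M)).cocomplex :=
  InjectiveResolution.desc ((Scheme.Modules.pullbackPushforwardAdjunction g').unit.app M)
      (injectiveResolution ((Scheme.Modules.pushforward g').obj ((Scheme.Modules.pullback g').obj M)))
      (injectiveResolution M) ≫
    RDer.descToInjectives (𝟙 _)
      (injectiveResolution ((Scheme.Modules.pushforward g').obj ((Scheme.Modules.pullback g').obj M))).cocomplex
      (injectiveResolution ((Scheme.Modules.pushforward g').obj ((Scheme.Modules.pullback g').obj M))).ι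
      (((Scheme.Modules.pushforward g').mapHomologicalComplex _).obj
        (injectiveResolution ((Scheme.Modules.pullback g').obj M)).cocomplex)
      (RDer.mapAug (Scheme.Modules.pushforward g') (injectiveResolution ((Scheme.Modules.pullback g').obj M)).ι)

/-- The square of injective resolutions underlying the base change morphism. -/
noncomputable def bcSquare (sq : IsPullback g' f' f g) {M : X.Modules} (hM : Coh.IsQCoh M) :
    ResSquare f g g' f' ((Scheme.Modules.pullbackPushforwardAdjunction g').unit.app M) where
  sq := sq
  K := (injectiveResolution M).cocomplex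
  L := (injectiveResolution ((Scheme.Modules.pullback g').obj M)).cocomplex
  a := (injectiveResolution M).ι.f 0
  a' := (injectiveResolution ((Scheme.Modules.pullback g').obj M)).ι.f 0
  hK := isRes_injectiveResolution _
  hL := isRes_injectiveResolution _
  qM := hM
  qM' := isQCoh_pullback g' hM
  hη := hη_unit g' hM
  ψ := bcPsi g' M
  comm := by
    simp only [bcPsi, HomologicalComplex.comp_f, InjectiveResolution.desc_commutes_zero_assoc]
    refine (Category.assoc _ _ _).trans ?_
    refine congrArg ((Scheme.Modules.pullbackPushforwardAdjunction g').unit.app M ≫ ·) ?_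
    refine (RDer.ι_descToInjectives_f_zero _ _ _ _ _).trans ?_
    refine (Category.id_comp _).trans ?_
    simp [RDer.mapAug, HomologicalComplex.singleMapHomologicalComplex_inv_app_self]

/-- Flat base change: the base change morphism is an isomorphism. -/
theorem isIso_bcQ [QuasiCompact f] [QuasiSeparated f] [Flat g] (sq : IsPullback g' f' f g) (M : X.Modules)
    (hM : Coh.IsQCoh M) (q : ℕ) : IsIso (CohBC.bcQ f g f' g' sq.w q M) := by
  let F := Scheme.Modules.pushforward f
  let P := Scheme.Modules.pushforward g'
  let G := (Scheme.Modules.pullback g').obj M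
  let unit := (Scheme.Modules.pullbackPushforwardAdjunction g').unit.app M
  let I := injectiveResolution M
  let J := injectiveResolution G
  let I' := injectiveResolution (P.obj G)
  let D := bcSquare f g g' f' sq hM
  haveI := isIso_transpose_αSh D q
  haveI := preservesFiniteLimits_pushforward g
  have e : CohBC.bcQAdj f g f' g' sq.w q M = (I.isoRightDerivedObj F q).hom ≫ αSh D q ≫
      (Scheme.Modules.pushforward g).map (J.isoRightDerivedObj (Scheme.Modules.pushforward f') q).inv := by
    have h1 := InjectiveResolution.isoRightDerivedObj_hom_naturality unit I I'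
      (InjectiveResolution.desc unit I' I) (InjectiveResolution.desc_commutes_zero _ _ _) F q
    have h2 : (CohBC.RpushSquareIso f g f' g' sq.w q).hom.app G =
        (J.isoRightDerivedObj (P ⋙ F) q).hom ≫
          (homologyFunctor S.Modules _ q).map
            ((NatTrans.mapHomologicalComplex (sqIso sq.w).hom _).app J.cocomplex) ≫
          (J.isoRightDerivedObj (Scheme.Modules.pushforward f' ⋙ Scheme.Modules.pushforward g) q).inv :=
      InjectiveResolution.rightDerived_app_eq (sqIso sq.w).hom J q
    simp only [CohBC.bcQAdj, RDer.edgeIn, RDer.edgeOut, Category.assoc]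
    rw [h2]
    simp only [I, J, I', F, P, G] at h1 ⊢
    simp only [Category.assoc, Iso.inv_hom_id_assoc]
    rw [reassoc_of% h1]
    simp only [αSh, pushPsi, D, bcSquare, bcPsi, Functor.comp_map, Functor.map_comp,
      HomologicalComplex.homologyMap_comp, Category.assoc, homologyFunctor_map]
    rfl
  rw [CohBC.bcQ, e, Adjunction.homEquiv_naturality_left_symm, Adjunction.homEquiv_naturality_right_symm]
  exact @IsIso.comp_isIso _ _ _ _ _ _ _ inferInstance
    (@IsIso.comp_isIso _ _ _ _ _ _ _ (isIso_transpose_αSh D q) inferInstance)

end named

end Groth.Agent.CohBC
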