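import Groth.Agent.CohBC.Psi
import Groth.Agent.QCoh.Bound

/-!
# The base change map of sections of flasque resolutions is a quasi-isomorphism
-/

set_option backward.isDefEq.respectTransparency false
set_option backward.isDefEq.respectTransparency.types false
set_option linter.style.haveILetI false
set_option autoImplicit false

universe u

open CategoryTheory CategoryTheory.Limits AlgebraicGeometry TopologicalSpace Opposite TensorProduct

namespace Groth.Agent.CohBC

open Groth.Agent.QCoh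

/-- A square of schemes with a morphism of resolutions over it. -/
structure ResSquare {X S X' S' : Scheme.{u}} (f : X ⟶ S) (g : S' ⟶ S) (g' : X' ⟶ X) (f' : X' ⟶ S')
    {M : X.Modules} {M' : X'.Modules} (η : M ⟶ (Scheme.Modules.pushforward g').obj M') where
  sq : IsPullback g' f' f g
  K : CochainComplex X.Modules ℕ
  L : CochainComplex X'.Modules ℕ
  a : M ⟶ K.X 0
  a' : M' ⟶ L.X 0
  hK : IsRes M K a
  hL : IsRes M' L a'
  qM : Coh.IsQCoh M
  qM' : Coh.IsQCoh M'
  hη : ∀ (V : X.Opens), IsAffineOpen V → ∀ (V' : X'.Opens), IsAffineOpen V' →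
    ∀ hle : V' ≤ g' ⁻¹ᵁ V, IsBCAt g' η V V' hle
  ψ : K ⟶ ((Scheme.Modules.pushforward g').mapHomologicalComplex _).obj L
  comm : a ≫ ψ.f 0 = η ≫ (Scheme.Modules.pushforward g').map a'

variable {X S X' S' : Scheme.{u}} {f : X ⟶ S} {g : S' ⟶ S} {g' : X' ⟶ X} {f' : X' ⟶ S'}
  {M : X.Modules} {M' : X'.Modules} {η : M ⟶ (Scheme.Modules.pushforward g').obj M'}
  (D : ResSquare f g g' f' η) {U : S.Opens} (hU : IsAffineOpen U) {W : S'.Opens} (hW : IsAffineOpen W)
  (hle : W ≤ g ⁻¹ᵁ U) [Algebra Γ(S, U) Γ(S', W)]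
  (halg : ∀ r, algebraMap Γ(S, U) Γ(S', W) r = g.appLE U W hle r)

/-- The base change map for a resolution square. -/
noncomputable abbrev ResSquare.psi {V : X.Opens} (h : V ≤ f ⁻¹ᵁ U) :=
  CohBC.psi g g' f' D.sq.w hle halg D.ψ h

include D hU hW hle in
theorem ResSquare.isAffineOpen_pre {V : X.Opens} (hV : IsAffineOpen V) (h : V ≤ f ⁻¹ᵁ U) :
    IsAffineOpen (pre g' f' V W) := by
  haveI : IsAffine _ := hU
  haveI : IsAffine _ := hW
  haveI : IsAffine _ := hV
  exact .of_isIso (Scheme.Hom.isPullback_resLE D.sq hle h (UY := pre g' f' V W) rfl).isoPullback.hom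

variable [Module.Flat Γ(S, U) Γ(S', W)]

include hU hW in
theorem ResSquare.quasiIso_affine {V : X.Opens} (hV : IsAffineOpen V) (h : V ≤ f ⁻¹ᵁ U) :
    QuasiIso (D.psi hle halg h) := by
  have hV' : IsAffineOpen (pre g' f' V W) := D.isAffineOpen_pre hU hW hle hV h
  rw [quasiIso_iff]
  haveI := bcFunctor_preservesHomology Γ(S, U) Γ(S', W)
  intro i
  cases i with
  | succ n =>
    rw [quasiIsoAt_iff_exactAt']
    · refine (show (secCx f h D.K).ExactAt (n + 1) from ?_).map (bcFunctor Γ(S, U) Γ(S', W))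
      rw [HomologicalComplex.exactAt_iff' _ n (n + 1) (n + 2) (by simp) (by simp),
        ShortComplex.moduleCat_exact_iff]
      intro x hx
      exact D.hK.exists_d (subsingleton_HU_of_isAffineOpen D.qM hV n) x hx
    · rw [HomologicalComplex.exactAt_iff' _ n (n + 1) (n + 2) (by simp) (by simp),
        ShortComplex.moduleCat_exact_iff]
      intro x hx
      exact D.hL.exists_d (subsingleton_HU_of_isAffineOpen D.qM' hV' n) x hx
  | zero =>
    let hR : pre g' f' V W ≤ f' ⁻¹ᵁ W := inf_le_right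
    let V' := pre g' f' V W
    have hpo := (isIso_pushoutSection_iff D.sq hle h (UY := V') rfl).mp
      (isIso_pushoutSection_of_isAffineOpen D.sq hle h rfl hU hW hV)
    letI : Algebra Γ(S, U) Γ(X, V) := (f.appLE U V h).hom.toAlgebra
    letI : Algebra Γ(S', W) Γ(X', V') := (f'.appLE W V' hR).hom.toAlgebra
    letI : Algebra Γ(X, V) Γ(X', V') := (g'.appLE V V' inf_le_left).hom.toAlgebra
    letI : Algebra Γ(S, U) Γ(X', V') := (f.appLE U V h ≫ g'.appLE V V' inf_le_left).hom.toAlgebra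
    haveI : IsScalarTower Γ(S, U) Γ(X, V) Γ(X', V') := .of_algebraMap_eq fun _ => rfl
    haveI : IsScalarTower Γ(S, U) Γ(S', W) Γ(X', V') := .of_algebraMap_eq fun r =>
      (appLE_square g g' f' D.sq.w hle h inf_le_left hR r).trans (congrArg (f'.appLE W V' hR) (halg r).symm)
    haveI : Algebra.IsPushout Γ(S, U) Γ(S', W) Γ(X, V) Γ(X', V') := by
      refine CommRingCat.isPushout_iff_isPushout.mp ?_
      have e : CommRingCat.ofHom (algebraMap Γ(S, U) Γ(S', W)) = g.appLE U W hle :=
        CommRingCat.hom_ext (RingHom.ext halg)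
      rw [e]
      exact hpo.flip
    letI := secMod f h M
    letI := secMod f' hR M'
    letI : Module Γ(S, U) Γ(M', V') := Module.compHom _ (algebraMap Γ(S, U) Γ(S', W))
    haveI : IsScalarTower Γ(S, U) Γ(S', W) Γ(M', V') := .of_algebraMap_smul fun _ _ => rfl
    haveI : IsScalarTower Γ(S, U) Γ(X, V) Γ(M, V) := .of_algebraMap_smul fun _ _ => rfl
    haveI : IsScalarTower Γ(S', W) Γ(X', V') Γ(M', V') := .of_algebraMap_smul fun _ _ => rfl
    letI : Module Γ(X, V) Γ(M', V') := Module.compHom _ (g'.appLE V V' inf_le_left).hom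
    haveI : IsScalarTower Γ(X, V) Γ(X', V') Γ(M', V') := .of_algebraMap_smul fun _ _ => rfl
    let l : Γ(M, V) →ₗ[Γ(X, V)] Γ(M', V') :=
      { toFun := secMap g' η inf_le_left
        map_add' := secMap_add g' η _
        map_smul' := secMap_smul_appLE g' η _ }
    let l' : Γ(M, V) →ₗ[Γ(S, U)] Γ(M', V') :=
      { toFun := secMap g' η inf_le_left
        map_add' := secMap_add g' η _
        map_smul' := fun r x => by
          rw [RingHom.id_apply, ← algebraMap_smul Γ(X, V) r x, secMap_smul_appLE,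
            ← algebraMap_smul Γ(S', W) r (secMap g' η inf_le_left x),
            ← algebraMap_smul Γ(X', V') (algebraMap Γ(S, U) Γ(S', W) r) (secMap g' η inf_le_left x),
            halg, RingHom.algebraMap_toAlgebra, RingHom.algebraMap_toAlgebra,
            appLE_square g g' f' D.sq.w hle h inf_le_left hR] }
    have hb : IsBaseChange Γ(S', W) l' :=
      isBaseChange_of_isPushout l (D.hη V hV V' hV' inf_le_left l fun _ => rfl) l' fun _ => rfl
    let a₀ : ModuleCat.of Γ(S, U) Γ(M, V) ⟶ (secCx f h D.K).X 0 := (secF f h).map D.a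
    let a' : ModuleCat.of Γ(S', W) Γ(M', V') ⟶ (secCx f' hR D.L).X 0 := (secF f' hR).map D.a'
    let b : (bcFunctor Γ(S, U) Γ(S', W)).obj (ModuleCat.of Γ(S, U) Γ(M, V)) ⟶
        ModuleCat.of Γ(S', W) Γ(M', V') := hb.equiv.toModuleIso.hom
    haveI : IsIso b := inferInstanceAs (IsIso hb.equiv.toModuleIso.hom)
    have h0 : ∀ x : Γ(M, V), (D.K.d 0 1).app V (D.a.app V x) = 0 := fun x =>
      congr(($(D.hK.zero)).app V x)
    have hexact : Function.Exact a₀.hom ((secCx f h D.K).d 0 1).hom := fun y =>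
      ⟨fun hy => D.hK.exists_aug y hy, by rintro ⟨x, rfl⟩; exact h0 x⟩
    refine quasiIsoAt_zero_of_aug _ ((bcFunctor Γ(S, U) Γ(S', W)).map a₀) a' b ?_ (D.hL.aug_injective V')
      ?_ ?_ ?_ (fun y hy => D.hL.exists_aug y hy) ?_
    · exact Module.Flat.lTensor_preserves_injective_linearMap (M := Γ(S', W)) a₀.hom (D.hK.aug_injective V)
    · show (bcFunctor Γ(S, U) Γ(S', W)).map a₀ ≫ (bcFunctor Γ(S, U) Γ(S', W)).map ((secCx f h D.K).d 0 1) = 0
      rw [← Functor.map_comp, show a₀ ≫ (secCx f h D.K).d 0 1 = 0 from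
        ModuleCat.hom_ext (LinearMap.ext h0), Functor.map_zero]
    · exact ModuleCat.hom_ext (LinearMap.ext fun x => congr(($(D.hL.zero)).app V' x))
    · intro y hy
      exact (Module.Flat.lTensor_exact Γ(S', W) hexact y).1 hy
    · let : Module Γ(S, U) ((secCx f' hR D.L).X 0) := Module.compHom _ (algebraMap Γ(S, U) Γ(S', W))
      have : IsScalarTower Γ(S, U) Γ(S', W) ((secCx f' hR D.L).X 0) := .of_algebraMap_smul fun _ _ => rfl
      refine ModuleCat.hom_ext (TensorProduct.AlgebraTensorModule.ext (R := Γ(S, U)) (A := Γ(S', W))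
        (M := Γ(S', W)) (N := Γ(M, V)) (P := (secCx f' hR D.L).X 0) fun s (m : Γ(M, V)) => ?_)
      show (adjunct ((secCxMap g g' f' D.sq.w hle halg D.ψ h).f 0)).hom (TensorProduct.tmul Γ(S, U) s (a₀.hom m)) =
        a'.hom (hb.equiv (TensorProduct.tmul Γ(S, U) s m))
      rw [IsBaseChange.equiv_tmul]
      refine (adjunct_tmul _ s _).trans (Eq.trans ?_ (a'.hom.map_smul s _).symm)
      refine congrArg (s • ·) ?_
      show secMap g' (D.ψ.f 0) inf_le_left (D.a.app V m) = D.a'.app V' (secMap g' η inf_le_left m)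
      unfold secMap
      rw [map_app_comm]
      exact congrArg _ (congr(($(D.comm)).app V m))

include hU hW in
theorem ResSquare.quasiIso_basic {V : X.Opens} (hV : IsAffineOpen V) (h : V ≤ f ⁻¹ᵁ U) :
    ∀ (t : ℕ) (r : Fin t → Γ(X, V)) (P : X.Opens) (_ : P = ⨆ i, X.basicOpen (r i)) (hP : P ≤ f ⁻¹ᵁ U),
      QuasiIso (D.psi hle halg hP) := by
  intro t
  induction t with
  | zero =>
    intro r P hPe hP
    exact D.quasiIso_affine hU hW hle halg
      (by rw [hPe, iSup_of_empty]; exact isAffineOpen_bot X) hP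
  | succ t ih =>
    intro r P hPe hP
    obtain rfl : P = X.basicOpen (r 0) ⊔ ⨆ i : Fin t, X.basicOpen (r i.succ) := hPe.trans
      (le_antisymm (iSup_le fun i => Fin.cases le_sup_left
        (fun j => le_sup_of_le_right (le_iSup (fun i : Fin t => X.basicOpen (r i.succ)) j)) i)
        (sup_le (le_iSup (fun i => X.basicOpen (r i)) 0) (iSup_le fun i => le_iSup (fun i => X.basicOpen (r i)) i.succ)))
    refine quasiIso_psi_sup g g' f' D.sq.w hle halg D.ψ D.hK.flasque D.hL.flasque
      (le_sup_left.trans hP) (le_sup_right.trans hP)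
      (D.quasiIso_affine hU hW hle halg (hV.basicOpen (r 0)) _)
      (ih (fun i => r i.succ) _ rfl _) (ih (fun i => r 0 * r i.succ) _ ?_ _)
    rw [inf_iSup_eq]
    exact congrArg iSup (funext fun i => (X.basicOpen_mul _ _).symm)

include hU hW in
theorem ResSquare.quasiIso_of_le {V P : X.Opens} (hV : IsAffineOpen V) (h : V ≤ f ⁻¹ᵁ U)
    (hPc : IsCompact (P : Set X)) (hPV : P ≤ V) : QuasiIso (D.psi hle halg (hPV.trans h)) := by
  have hex : ∀ x : P, ∃ r : Γ(X, V), X.basicOpen r ≤ P ∧ x.1 ∈ X.basicOpen r := fun x =>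
    hV.exists_basicOpen_le ⟨x.1, x.2⟩ (hPV x.2)
  choose r hr hxr using hex
  obtain ⟨s, hs⟩ := hPc.elim_finite_subcover (fun x : P => (X.basicOpen (r x) : Set X))
    (fun x => (X.basicOpen (r x)).2) (fun x hx => Set.mem_iUnion.2 ⟨⟨x, hx⟩, hxr ⟨x, hx⟩⟩)
  refine D.quasiIso_basic hU hW hle halg hV h _ (fun i => r (s.equivFin.symm i).1) P ?_ _
  refine le_antisymm (fun x hx => ?_) (iSup_le fun i => hr _)
  obtain ⟨y, hy, hxy⟩ := Set.mem_iUnion₂.1 (hs hx)
  exact Opens.mem_iSup.2 ⟨s.equivFin ⟨y, hy⟩, by rw [Equiv.symm_apply_apply]; exact hxy⟩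

include hU hW in
theorem ResSquare.quasiIso_qc (hqs : IsQuasiSeparated ((f ⁻¹ᵁ U : X.Opens) : Set X)) :
    ∀ (t : ℕ) (V : Fin t → X.Opens), (∀ i, IsAffineOpen (V i)) →
      ∀ (P : X.Opens) (_ : P = ⨆ i, V i) (hP : P ≤ f ⁻¹ᵁ U), QuasiIso (D.psi hle halg hP) := by
  intro t
  induction t with
  | zero =>
    intro V _ P hPe hP
    exact D.quasiIso_affine hU hW hle halg (by rw [hPe, iSup_of_empty]; exact isAffineOpen_bot X) hP
  | succ t ih =>
    intro V hV P hPe hP
    obtain rfl : P = V 0 ⊔ ⨆ i : Fin t, V i.succ := hPe.trans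
      (le_antisymm (iSup_le fun i => Fin.cases le_sup_left
        (fun j => le_sup_of_le_right (le_iSup (fun i : Fin t => V i.succ) j)) i)
        (sup_le (le_iSup _ _) (iSup_le fun i => le_iSup _ _)))
    refine quasiIso_psi_sup g g' f' D.sq.w hle halg D.ψ D.hK.flasque D.hL.flasque
      (le_sup_left.trans hP) (le_sup_right.trans hP)
      (D.quasiIso_affine hU hW hle halg (hV 0) _) (ih (fun i => V i.succ) (fun i => hV i.succ) _ rfl _)
      (D.quasiIso_of_le hU hW hle halg (hV 0) (le_sup_left.trans hP) ?_ inf_le_left)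
    rw [Opens.coe_inf, Opens.coe_iSup, Set.inter_iUnion]
    exact isCompact_iUnion fun i => hqs _ _
      (SetLike.coe_subset_coe.2 (le_sup_left.trans hP)) (V 0).2 (hV 0).isCompact
      (SetLike.coe_subset_coe.2 (((le_iSup (fun i : Fin t => V i.succ) i).trans le_sup_right).trans hP))
      (V i.succ).2 (hV i.succ).isCompact

include hU hW in
/-- The base change map over the whole inverse image of an affine open. -/
theorem ResSquare.quasiIso_top [QuasiCompact f] [QuasiSeparated f] :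
    QuasiIso (D.psi hle halg (le_rfl : f ⁻¹ᵁ U ≤ f ⁻¹ᵁ U)) := by
  obtain ⟨s, hs, hcov⟩ := isCompact_iff_finite_and_eq_biUnion_affineOpens.mp
    (f.isCompact_preimage hU.isCompact)
  refine D.quasiIso_qc hU hW hle halg (f.isQuasiSeparated_preimage hU.isQuasiSeparated) _
    (fun i => (hs.toFinset.equivFin.symm i).1.1) (fun i => (hs.toFinset.equivFin.symm i).1.2) _ ?_ _
  rw [hcov]
  refine le_antisymm (iSup₂_le fun Q hQ => ?_) (iSup_le fun i => ?_)
  · exact le_trans (by simp) (le_iSup _ (hs.toFinset.equivFin ⟨Q, hs.mem_toFinset.2 hQ⟩))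
  · exact le_iSup₂ (f := fun (Q : X.affineOpens) (_ : Q ∈ s) => Q.1) _
      (hs.mem_toFinset.1 (hs.toFinset.equivFin.symm i).2)

end Groth.Agent.CohBC
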