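import Groth.Agent.CohBC.Homology

/-!
# Base change for homology sheaves of direct images of resolutions
-/

set_option backward.isDefEq.respectTransparency false
set_option backward.isDefEq.respectTransparency.types false
set_option linter.style.haveILetI false
set_option autoImplicit false

universe u v₁ v₂ u₁ u₂

open CategoryTheory CategoryTheory.Limits AlgebraicGeometry TopologicalSpace Opposite TensorProduct

namespace Groth.Agent.CohBC

open Groth.Agent.QCoh

theorem homologyπ_mapHomologyIso {C : Type u₁} [Category.{v₁} C] [Preadditive C] {D : Type u₂}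
    [Category.{v₂} D] [Preadditive D] (T : ShortComplex C) (F : C ⥤ D) [F.PreservesZeroMorphisms]
    [T.HasHomology] [F.PreservesLeftHomologyOf T] [(T.map F).HasHomology] :
    (T.map F).homologyπ ≫ (T.mapHomologyIso F).hom = (T.mapCyclesIso F).hom ≫ F.map T.homologyπ := by
  rw [T.leftHomologyData.mapHomologyIso_eq F, T.leftHomologyData.mapCyclesIso_eq F]
  simp only [Iso.trans_hom, Functor.mapIso_hom, Iso.symm_hom, Category.assoc,
    ShortComplex.LeftHomologyData.homologyπ_comp_homologyIso_hom_assoc]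
  rw [← F.map_comp, show (T.leftHomologyData.map F).π = F.map T.leftHomologyData.π from rfl, ← F.map_comp,
    T.leftHomologyData.π_comp_homologyIso_inv]

variable {X S X' S' : Scheme.{u}} {f : X ⟶ S} {g : S' ⟶ S} {g' : X' ⟶ X} {f' : X' ⟶ S'}
  {M : X.Modules} {M' : X'.Modules} {η : M ⟶ (Scheme.Modules.pushforward g').obj M'}
  (D : ResSquare f g g' f' η) {U : S.Opens} (hU : IsAffineOpen U) {W : S'.Opens} (hW : IsAffineOpen W)
  (hle : W ≤ g ⁻¹ᵁ U)

include D hle in
theorem ResSquare.le_pre : f' ⁻¹ᵁ W ≤ pre g' f' (f ⁻¹ᵁ U) W := by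
  refine le_inf ?_ le_rfl
  rw [← Scheme.Hom.comp_preimage, D.sq.w, Scheme.Hom.comp_preimage]
  exact f'.preimage_mono hle

include D hle in
theorem ResSquare.le_pre' : f' ⁻¹ᵁ W ≤ g' ⁻¹ᵁ (f ⁻¹ᵁ U) := (D.le_pre hle).trans inf_le_left

variable [Algebra Γ(S, U) Γ(S', W)]
  (halg : ∀ r, algebraMap Γ(S, U) Γ(S', W) r = g.appLE U W hle r) [Module.Flat Γ(S, U) Γ(S', W)]

include hU hW halg in
/-- Cohomology of sections over `W` is the base change of that over `U`. -/
theorem ResSquare.exists_bc [QuasiCompact f] [QuasiSeparated f] (n : ℕ) :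
    ∃ μ : (bcFunctor Γ(S, U) Γ(S', W)).obj ((topCx f D.K U).homology n) ≅ (topCx f' D.L W).homology n,
      ∀ (z : (topCx f D.K U).cycles n), ∃ z' : (topCx f' D.L W).cycles n,
        (show Γ(D.L.X n, f' ⁻¹ᵁ W) from (topCx f' D.L W).iCycles n z') =
          secMap g' (D.ψ.f n) (D.le_pre' hle) (show Γ(D.K.X n, f ⁻¹ᵁ U) from (topCx f D.K U).iCycles n z) ∧
        μ.hom (show (bcFunctor Γ(S, U) Γ(S', W)).obj ((topCx f D.K U).homology n) from
          (1 : Γ(S', W)) ⊗ₜ[Γ(S, U)] (show ((topCx f D.K U).homology n : Type u) from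
            (topCx f D.K U).homologyπ n z)) =
          (topCx f' D.L W).homologyπ n z' := by
  haveI := D.quasiIso_top hU hW hle halg
  haveI := bcFunctor_preservesHomology Γ(S, U) Γ(S', W)
  let F := bcFunctor Γ(S, U) Γ(S', W)
  let A := topCx f D.K U
  let r := secCxRes f' (inf_le_right : pre g' f' (f ⁻¹ᵁ U) W ≤ _) (le_rfl : f' ⁻¹ᵁ W ≤ f' ⁻¹ᵁ W) (D.le_pre hle) D.L
  let r' := secCxRes f' (le_rfl : f' ⁻¹ᵁ W ≤ f' ⁻¹ᵁ W) (inf_le_right : pre g' f' (f ⁻¹ᵁ U) W ≤ _) inf_le_right D.L
  haveI : IsIso r := ⟨r', by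
      ext i : 1
      exact ModuleCat.hom_ext (LinearMap.ext fun (x : Γ(D.L.X i, _)) =>
        (QCoh.map_map _ _ x).trans (QCoh.map_id' _ x)), by
      ext i : 1
      exact ModuleCat.hom_ext (LinearMap.ext fun (x : Γ(D.L.X i, _)) =>
        (QCoh.map_map _ _ x).trans (QCoh.map_id' _ x))⟩
  let φ := D.psi hle halg (le_rfl : f ⁻¹ᵁ U ≤ f ⁻¹ᵁ U) ≫ r
  haveI : QuasiIso φ := inferInstance
  let i₁ := ((A.sc n).mapHomologyIso F).symm
  let i₂ := isoOfQuasiIsoAt φ n
  refine ⟨i₁ ≪≫ i₂, fun z => ?_⟩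
  let t : F.obj (A.cycles n) := (1 : Γ(S', W)) ⊗ₜ[Γ(S, U)] (show (A.cycles n : Type u) from z)
  let t' : (((bcFunctor Γ(S, U) Γ(S', W)).mapHomologicalComplex _).obj A).cycles n :=
    ((A.sc n).mapCyclesIso F).inv t
  refine ⟨HomologicalComplex.cyclesMap φ n t', ?_, ?_⟩
  · refine (congr($(HomologicalComplex.cyclesMap_i φ n) t')).trans ?_
    show φ.f n ((((bcFunctor Γ(S, U) Γ(S', W)).mapHomologicalComplex _).obj A).iCycles n t') = _
    have e : ((A.sc n).mapCyclesIso F).inv ≫ ((A.sc n).map F).iCycles = F.map (A.sc n).iCycles := by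
      rw [Iso.inv_comp_eq]; exact ((A.sc n).mapCyclesIso_hom_iCycles F).symm
    have e' : (((bcFunctor Γ(S, U) Γ(S', W)).mapHomologicalComplex _).obj A).iCycles n t' =
        ((1 : Γ(S', W)) ⊗ₜ[Γ(S, U)] (show (A.X n : Type u) from A.iCycles n z)) :=
      (congr($e t))
    rw [e']
    show r.f n ((adjunct ((secCxMap g g' f' D.sq.w hle halg D.ψ le_rfl).f n)).hom _) = _
    rw [adjunct_tmul, one_smul]
    exact QCoh.map_secMap g' (D.ψ.f n) inf_le_left (homOfLE (D.le_pre hle)) _
  · show HomologicalComplex.homologyMap φ n (i₁.hom _) = _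
    have e1 : F.map (A.homologyπ n) ≫ i₁.hom = ((A.sc n).mapCyclesIso F).inv ≫ ((A.sc n).map F).homologyπ := by
      show F.map (A.sc n).homologyπ ≫ ((A.sc n).mapHomologyIso F).inv = _
      rw [Iso.eq_inv_comp, ← Category.assoc, Iso.comp_inv_eq]
      exact (homologyπ_mapHomologyIso (A.sc n) F).symm
    refine (congrArg (HomologicalComplex.homologyMap φ n) (congr($e1 t))).trans ?_
    exact congr($(HomologicalComplex.homologyπ_naturality φ n) t')

/-- The identity square of a resolution. -/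
noncomputable def idSquare {X S : Scheme.{u}} (f : X ⟶ S) {M : X.Modules} (hM : Coh.IsQCoh M)
    {K : CochainComplex X.Modules ℕ} {a : M ⟶ K.X 0} (hK : IsRes M K a) :
    ResSquare f (𝟙 S) (𝟙 X) f ((Scheme.Modules.pushforwardId X).inv.app M) where
  sq := IsPullback.id_horiz f
  K := K
  L := K
  a := a
  a' := a
  hK := hK
  hL := hK
  qM := hM
  qM' := hM
  hη V hV V' hV' hle := isBCAt_of_isIso_transpose (𝟙 X) _ hM hV hV' hle (isIso_transpose_id M)
  ψ :=
    { f := fun i => (Scheme.Modules.pushforwardId X).inv.app (K.X i)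
      comm' := fun i j _ => ((Scheme.Modules.pushforwardId X).inv.naturality (K.d i j)).symm }
  comm := (Scheme.Modules.pushforwardId X).inv.naturality a

theorem idSquare_secMap {X S : Scheme.{u}} (f : X ⟶ S) {M : X.Modules} (hM : Coh.IsQCoh M)
    {K : CochainComplex X.Modules ℕ} {a : M ⟶ K.X 0} (hK : IsRes M K a) (i : ℕ) {V V' : X.Opens}
    (h : V' ≤ (𝟙 X) ⁻¹ᵁ V) (x : Γ(K.X i, V)) :
    secMap (𝟙 X) ((idSquare f hM hK).ψ.f i) h x = (K.X i).presheaf.map (homOfLE (show V' ≤ V from h)).op x :=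
  rfl

/-- The boundary maps of the direct image of a resolution localize on affine opens. -/
theorem locRange_toCycles {X S : Scheme.{u}} (f : X ⟶ S) [QuasiCompact f] [QuasiSeparated f] {M : X.Modules}
    (hM : Coh.IsQCoh M) {K : CochainComplex X.Modules ℕ} {a : M ⟶ K.X 0} (hK : IsRes M K a) (n : ℕ) :
    LocRange ((pushCx f K).toCycles ((ComplexShape.up ℕ).prev n) n) := by
  let D := idSquare f hM hK
  let p := (ComplexShape.up ℕ).prev n
  have main : ∀ (V : S.Opens) (hV : IsAffineOpen V) (g : Γ(S, V)),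
      letI : Algebra Γ(S, V) Γ(S, S.basicOpen g) := (S.presheaf.map (homOfLE (S.basicOpen_le g)).op).hom.toAlgebra
      ∃ μ : (bcFunctor Γ(S, V) Γ(S, S.basicOpen g)).obj ((topCx f K V).homology n) ≅
          (topCx f K (S.basicOpen g)).homology n,
        ∀ z : (topCx f K V).cycles n, ∃ z' : (topCx f K (S.basicOpen g)).cycles n,
          cycSec f K (S.basicOpen g) n z' = rs _ (S.basicOpen_le g) (cycSec f K V n z) ∧
          μ.hom (show (bcFunctor Γ(S, V) Γ(S, S.basicOpen g)).obj ((topCx f K V).homology n) from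
            (1 : Γ(S, S.basicOpen g)) ⊗ₜ[Γ(S, V)] (show ((topCx f K V).homology n : Type u) from
              (topCx f K V).homologyπ n z)) = (topCx f K (S.basicOpen g)).homologyπ n z' := by
    intro V hV g
    letI : Algebra Γ(S, V) Γ(S, S.basicOpen g) := (S.presheaf.map (homOfLE (S.basicOpen_le g)).op).hom.toAlgebra
    haveI := hV.isLocalization_basicOpen g
    haveI : Module.Flat Γ(S, V) Γ(S, S.basicOpen g) := IsLocalization.flat _ (Submonoid.powers g)
    have hle : S.basicOpen g ≤ (𝟙 S) ⁻¹ᵁ V := S.basicOpen_le g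
    obtain ⟨μ, hμ⟩ := D.exists_bc hV (hV.basicOpen g) hle (fun r => by
      rw [Scheme.Hom.appLE, Scheme.Hom.id_app]; rfl) n
    refine ⟨μ, fun z => ?_⟩
    obtain ⟨z', hz', hμz⟩ := hμ z
    refine ⟨z', app_injective ((pushCx f K).iCycles n) _ ?_, hμz⟩
    refine (iCycles_cycSec f K _ n z').trans (hz'.trans ((idSquare_secMap f hM hK n _ _).trans ?_))
    refine Eq.trans ?_ (app_rs ((pushCx f K).iCycles n) (S.basicOpen_le g) (cycSec f K V n z)).symm
    rw [iCycles_cycSec]
    rfl
  refine ⟨fun V hV g y => ?_, fun V hV g c b hb => ?_⟩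
  · obtain ⟨μ, hμ⟩ := main V hV g
    letI : Algebra Γ(S, V) Γ(S, S.basicOpen g) := (S.presheaf.map (homOfLE (S.basicOpen_le g)).op).hom.toAlgebra
    haveI := hV.isLocalization_basicOpen g
    obtain ⟨w, rfl⟩ := cycSec_surjective f K (S.basicOpen g) n y
    haveI : IsLocalizedModule (Submonoid.powers g)
        (TensorProduct.mk Γ(S, V) Γ(S, S.basicOpen g) ((topCx f K V).homology n : Type u) 1) :=
      (isLocalizedModule_iff_isBaseChange (Submonoid.powers g) Γ(S, S.basicOpen g) _).2
        (TensorProduct.isBaseChange _ _ _)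
    obtain ⟨⟨q, ⟨_, m, rfl⟩⟩, hq⟩ := IsLocalizedModule.surj (Submonoid.powers g)
      (TensorProduct.mk Γ(S, V) Γ(S, S.basicOpen g) ((topCx f K V).homology n : Type u) 1)
      (show Γ(S, S.basicOpen g) ⊗[Γ(S, V)] ((topCx f K V).homology n : Type u) from
        μ.inv ((topCx f K (S.basicOpen g)).homologyπ n w))
    obtain ⟨z, rfl⟩ := topCx_homologyπ_surjective f K V n q
    obtain ⟨z', hz', hμz⟩ := hμ z
    let c : Γ(S, S.basicOpen g) := rf S (S.basicOpen_le g) g ^ m
    have h0 : (topCx f K (S.basicOpen g)).homologyπ n (z' - c • w) = 0 := by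
      rw [map_sub, map_smul, sub_eq_zero, ← hμz]
      refine (congrArg μ.hom hq.symm).trans ?_
      show μ.hom ((g ^ m) • (show Γ(S, S.basicOpen g) ⊗[Γ(S, V)] ((topCx f K V).homology n : Type u) from
        μ.inv ((topCx f K (S.basicOpen g)).homologyπ n w))) = _
      rw [← algebraMap_smul Γ(S, S.basicOpen g) (g ^ m), show algebraMap Γ(S, V) Γ(S, S.basicOpen g) (g ^ m) = c from
        map_pow _ _ _]
      exact (μ.hom.hom.map_smul c _).trans (congrArg (c • ·) congr($(μ.inv_hom_id) _))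
    obtain ⟨b, hb⟩ := topCx_exists_toCycles f K (S.basicOpen g) n _ h0
    refine ⟨m, cycSec f K V n z, b, ?_⟩
    refine (cycSec_toCycles f K (S.basicOpen g) n p b).symm.trans ?_
    rw [hb, ← hz']
    show cycSecLin f K _ n (z' - c • w) = cycSecLin f K _ n z' - c • cycSecLin f K _ n w
    rw [map_sub, map_smul]
  · obtain ⟨μ, hμ⟩ := main V hV g
    letI : Algebra Γ(S, V) Γ(S, S.basicOpen g) := (S.presheaf.map (homOfLE (S.basicOpen_le g)).op).hom.toAlgebra
    haveI := hV.isLocalization_basicOpen g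
    haveI : IsLocalizedModule (Submonoid.powers g)
        (TensorProduct.mk Γ(S, V) Γ(S, S.basicOpen g) ((topCx f K V).homology n : Type u) 1) :=
      (isLocalizedModule_iff_isBaseChange (Submonoid.powers g) Γ(S, S.basicOpen g) _).2
        (TensorProduct.isBaseChange _ _ _)
    obtain ⟨z, rfl⟩ := cycSec_surjective f K V n c
    obtain ⟨z', hz', hμz⟩ := hμ z
    have e : z' = (topCx f K (S.basicOpen g)).toCycles p n b := by
      refine (ModuleCat.mono_iff_injective ((topCx f K (S.basicOpen g)).iCycles n)).1 inferInstance ?_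
      refine (iCycles_cycSec f K _ n z').symm.trans
        ((congrArg (((pushCx f K).iCycles n).app (S.basicOpen g)) ?_).trans (iCycles_cycSec f K _ n _))
      rw [hz', cycSec_toCycles]
      exact hb.symm
    have h1 : TensorProduct.mk Γ(S, V) Γ(S, S.basicOpen g) ((topCx f K V).homology n : Type u) 1
        ((topCx f K V).homologyπ n z) = 0 := by
      refine ((μ.toLinearEquiv).injective ?_)
      refine (hμz.trans ?_).trans (map_zero μ.toLinearEquiv).symm
      rw [e]
      exact congr($((topCx f K (S.basicOpen g)).toCycles_comp_homologyπ p n) b)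
    obtain ⟨⟨_, m, rfl⟩, hm⟩ := (IsLocalizedModule.eq_zero_iff (Submonoid.powers g) _).1 h1
    obtain ⟨b', hb'⟩ := topCx_exists_toCycles f K V n (g ^ m • z) (by rw [map_smul]; exact hm)
    refine ⟨m, b', (cycSec_toCycles f K V n p b').symm.trans ?_⟩
    rw [hb']
    exact map_smul (cycSecLin f K V n) (g ^ m) z

end Groth.Agent.CohBC
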