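import Groth.Agent.CohBC.Qis

/-!
# Sections of homology sheaves of direct images of complexes
-/

set_option backward.isDefEq.respectTransparency false
set_option backward.isDefEq.respectTransparency.types false
set_option linter.style.haveILetI false
set_option autoImplicit false

universe u

open CategoryTheory CategoryTheory.Limits AlgebraicGeometry TopologicalSpace Opposite TensorProduct

namespace Groth.Agent.CohBC

open Groth.Agent.QCoh

variable {X S : Scheme.{u}} (f : X ⟶ S) (K : CochainComplex X.Modules ℕ) (U : S.Opens) (n : ℕ)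

/-- The direct image of a complex. -/
noncomputable abbrev pushCx : CochainComplex S.Modules ℕ :=
  ((Scheme.Modules.pushforward f).mapHomologicalComplex _).obj K

/-- The complex of sections over the inverse image of `U`. -/
noncomputable abbrev topCx : CochainComplex (ModuleCat.{u} Γ(S, U)) ℕ :=
  secCx f (le_rfl : f ⁻¹ᵁ U ≤ f ⁻¹ᵁ U) K

theorem exists_cycLift (x : Γ(K.X n, f ⁻¹ᵁ U))
    (hx : (K.d n ((ComplexShape.up ℕ).next n)).app (f ⁻¹ᵁ U) x = 0) :
    ∃ z : Γ((pushCx f K).cycles n, U), ((pushCx f K).iCycles n).app U z = x := by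
  haveI : Mono (ShortComplex.mk ((pushCx f K).iCycles n)
      ((pushCx f K).d n ((ComplexShape.up ℕ).next n)) ((pushCx f K).iCycles_d _ _)).f :=
    inferInstanceAs (Mono ((pushCx f K).iCycles n))
  exact exists_of_exact (T := ShortComplex.mk ((pushCx f K).iCycles n)
    ((pushCx f K).d n ((ComplexShape.up ℕ).next n)) ((pushCx f K).iCycles_d _ _))
    (ShortComplex.exact_of_f_is_kernel _ ((pushCx f K).cyclesIsKernel n _ rfl)) x hx

theorem topCx_iCycles_d (z : (topCx f K U).cycles n) :
    (K.d n ((ComplexShape.up ℕ).next n)).app (f ⁻¹ᵁ U)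
      (show Γ(K.X n, f ⁻¹ᵁ U) from (topCx f K U).iCycles n z) = 0 :=
  congr($((topCx f K U).iCycles_d n ((ComplexShape.up ℕ).next n)) z)

/-- A cycle of sections as a section of the cycles. -/
noncomputable def cycSec (z : (topCx f K U).cycles n) : Γ((pushCx f K).cycles n, U) :=
  (exists_cycLift f K U n _ (topCx_iCycles_d f K U n z)).choose

theorem iCycles_cycSec (z : (topCx f K U).cycles n) :
    ((pushCx f K).iCycles n).app U (cycSec f K U n z) =
      (show Γ(K.X n, f ⁻¹ᵁ U) from (topCx f K U).iCycles n z) :=
  (exists_cycLift f K U n _ (topCx_iCycles_d f K U n z)).choose_spec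

theorem topCx_smul (m : ℕ) (r : Γ(S, U)) (x : (topCx f K U).X m) :
    (show Γ(K.X m, f ⁻¹ᵁ U) from r • x) = f.app U r • (show Γ(K.X m, f ⁻¹ᵁ U) from x) := by
  show f.appLE U (f ⁻¹ᵁ U) le_rfl r • (show Γ(K.X m, f ⁻¹ᵁ U) from x) = _
  rw [Scheme.Hom.appLE_eq_app]

/-- Cycles of sections to sections of cycles, linearly. -/
noncomputable def cycSecLin : (topCx f K U).cycles n →ₗ[Γ(S, U)] Γ((pushCx f K).cycles n, U) where
  toFun := cycSec f K U n
  map_add' z z' := app_injective ((pushCx f K).iCycles n) U <| by
    simp only [map_add, iCycles_cycSec]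
  map_smul' r z := app_injective ((pushCx f K).iCycles n) U <| by
    rw [RingHom.id_apply, Scheme.Modules.Hom.app_smul, iCycles_cycSec, iCycles_cycSec, map_smul]
    exact topCx_smul f K U n r _

theorem cycSec_toCycles (i : ℕ) (y : (topCx f K U).X i) :
    cycSec f K U n ((topCx f K U).toCycles i n y) =
      ((pushCx f K).toCycles i n).app U (show Γ(K.X i, f ⁻¹ᵁ U) from y) := by
  refine app_injective ((pushCx f K).iCycles n) U ((iCycles_cycSec f K U n _).trans ?_)
  exact ((congr($((topCx f K U).toCycles_i i n) y))).trans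
    (congr(($((pushCx f K).toCycles_i i n)).app U (show Γ(K.X i, f ⁻¹ᵁ U) from y))).symm

theorem cycSec_surjective : Function.Surjective (cycSec f K U n) := fun c => by
  let x : Γ(K.X n, f ⁻¹ᵁ U) := ((pushCx f K).iCycles n).app U c
  have hx : (topCx f K U).d n ((ComplexShape.up ℕ).next n) x = 0 :=
    congr(($((pushCx f K).iCycles_d n ((ComplexShape.up ℕ).next n))).app U c)
  refine ⟨(topCx f K U).cyclesMk (show (topCx f K U).X n from x) _ rfl hx, app_injective ((pushCx f K).iCycles n) U ?_⟩
  exact (iCycles_cycSec f K U n _).trans ((topCx f K U).i_cyclesMk _ _ rfl hx)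

/-- The homology sheaf. -/
noncomputable abbrev hSh : S.Modules := (pushCx f K).homology n

/-- Classes of cycles of sections as sections of the homology sheaf. -/
noncomputable def clsCyc : (topCx f K U).cycles n ⟶ ModuleCat.of Γ(S, U) Γ(hSh f K n, U) :=
  ModuleCat.ofHom ((QCoh.appLin ((pushCx f K).homologyπ n) U).comp (cycSecLin f K U n))

theorem clsCyc_apply (z : (topCx f K U).cycles n) :
    clsCyc f K U n z = ((pushCx f K).homologyπ n).app U (cycSec f K U n z) := rfl

theorem toCycles_clsCyc : (topCx f K U).toCycles ((ComplexShape.up ℕ).prev n) n ≫ clsCyc f K U n = 0 := by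
  refine ModuleCat.hom_ext (LinearMap.ext fun y => ?_)
  refine (congrArg (((pushCx f K).homologyπ n).app U) (cycSec_toCycles f K U n _ y)).trans ?_
  exact congr(($((pushCx f K).toCycles_comp_homologyπ _ n)).app U (show Γ(K.X _, f ⁻¹ᵁ U) from y))

/-- Cohomology of sections to sections of cohomology. -/
noncomputable def cls : (topCx f K U).homology n ⟶ ModuleCat.of Γ(S, U) Γ(hSh f K n, U) :=
  ((topCx f K U).homologyIsCokernel ((ComplexShape.up ℕ).prev n) n rfl).desc
    (CokernelCofork.ofπ (clsCyc f K U n) (toCycles_clsCyc f K U n))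

theorem cls_π (z : (topCx f K U).cycles n) :
    cls f K U n ((topCx f K U).homologyπ n z) = ((pushCx f K).homologyπ n).app U (cycSec f K U n z) := by
  have h : (topCx f K U).homologyπ n ≫ cls f K U n = clsCyc f K U n :=
    ((topCx f K U).homologyIsCokernel _ n rfl).fac _ WalkingParallelPair.one
  exact congr($h z)

theorem topCx_homologyπ_surjective : Function.Surjective ((topCx f K U).homologyπ n) :=
  (ModuleCat.epi_iff_surjective _).1 inferInstance

theorem topCx_exists_toCycles (z : (topCx f K U).cycles n) (hz : (topCx f K U).homologyπ n z = 0) :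
    ∃ y, (topCx f K U).toCycles ((ComplexShape.up ℕ).prev n) n y = z :=
  (ShortComplex.moduleCat_exact_iff _).1 (ShortComplex.exact_of_g_is_cokernel
    (ShortComplex.mk _ _ ((topCx f K U).toCycles_comp_homologyπ ((ComplexShape.up ℕ).prev n) n))
    ((topCx f K U).homologyIsCokernel _ n rfl)) z hz

/-- The cokernel of the boundary map is the homology. -/
noncomputable def cokerIso :
    cokernel ((pushCx f K).toCycles ((ComplexShape.up ℕ).prev n) n) ≅ hSh f K n :=
  (cokernelIsCokernel _).coconePointUniqueUpToIso ((pushCx f K).homologyIsCokernel _ n rfl)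

theorem cokerIso_π : cokernel.π _ ≫ (cokerIso f K n).hom = (pushCx f K).homologyπ n :=
  (cokernelIsCokernel _).comp_coconePointUniqueUpToIso_hom _ WalkingParallelPair.one

theorem cls_bijective (hα : LocRange ((pushCx f K).toCycles ((ComplexShape.up ℕ).prev n) n))
    (hU : IsAffineOpen U) : Function.Bijective (cls f K U n) := by
  have key : ∀ c, (cokerIso f K n).hom.app U
      ((cokernel.π ((pushCx f K).toCycles ((ComplexShape.up ℕ).prev n) n)).app U c) =
      ((pushCx f K).homologyπ n).app U c := fun c => congr(($(cokerIso_π f K n)).app U c)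
  constructor
  · refine (injective_iff_map_eq_zero (cls f K U n).hom).2 fun q hq => ?_
    obtain ⟨z, rfl⟩ := topCx_homologyπ_surjective f K U n q
    replace hq : ((pushCx f K).homologyπ n).app U (cycSec f K U n z) = 0 := (cls_π f K U n z).symm.trans hq
    rw [← key] at hq
    obtain ⟨y, hy⟩ := hα.mem_range hU _ (app_injective (cokerIso f K n).hom U (hq.trans (map_zero _).symm))
    have e : (topCx f K U).toCycles _ n (show (topCx f K U).X _ from y) = z := by
      refine (ModuleCat.mono_iff_injective ((topCx f K U).iCycles n)).1 inferInstance ?_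
      exact ((congr($((topCx f K U).toCycles_i _ n) (show (topCx f K U).X _ from y))).trans
        ((congr(($((pushCx f K).toCycles_i _ n)).app U y)).symm.trans
          (congrArg (((pushCx f K).iCycles n).app U) hy))).trans (iCycles_cycSec f K U n z)
    rw [← e]
    exact congr($((topCx f K U).toCycles_comp_homologyπ _ n) _)
  · intro c
    obtain ⟨b, hb⟩ := hα.surjective hU ((cokerIso f K n).inv.app U c)
    obtain ⟨z, rfl⟩ := cycSec_surjective f K U n b
    refine ⟨(topCx f K U).homologyπ n z, (cls_π f K U n z).trans ?_⟩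
    rw [← key, hb]
    exact congr(($((cokerIso f K n).inv_hom_id)).app U c)

end Groth.Agent.CohBC
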