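import Groth.Agent.CohBC.Rpush

/-!
# The second edge map for an affine morphism
-/

set_option backward.isDefEq.respectTransparency false
set_option backward.isDefEq.respectTransparency.types false
set_option linter.style.haveILetI false
set_option autoImplicit false

universe u

open CategoryTheory CategoryTheory.Limits AlgebraicGeometry TopologicalSpace Opposite

namespace Groth.Agent.CohBC

open Groth.Agent.QCoh

variable {Y Z : Scheme.{u}} (g : Y ⟶ Z) [IsAffineHom g]

theorem isIso_homologyComparison (C : CochainComplex Y.Modules ℕ) (n : ℕ)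
    (hC : LocRange (C.toCycles ((ComplexShape.up ℕ).prev n) n)) :
    haveI := preservesFiniteLimits_pushforward g
    IsIso (RDer.homologyComparison (Scheme.Modules.pushforward g) C n) := by
  haveI := preservesFiniteLimits_pushforward g
  let P := Scheme.Modules.pushforward g
  let gC := (P.mapHomologicalComplex _).obj C
  let pr := (ComplexShape.up ℕ).prev n
  let κ : C.homology n ≅ cokernel (C.toCycles pr n) :=
    ((cokernelIsCokernel _).coconePointUniqueUpToIso (C.homologyIsCokernel pr n rfl)).symm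
  have hκ : C.homologyπ n ≫ κ.hom = cokernel.π _ :=
    (cokernelIsCokernel _).comp_coconePointUniqueUpToIso_inv (C.homologyIsCokernel pr n rfl) WalkingParallelPair.one
  have hcomm : ∀ (V : Z.Opens) (c : Γ(gC.cycles n, V)),
      (RDer.homologyComparison P C n).app V ((gC.homologyπ n).app V c) =
        (show Γ(P.obj (C.homology n), V) from (C.homologyπ n).app (g ⁻¹ᵁ V)
          (show Γ(C.cycles n, g ⁻¹ᵁ V) from (RDer.cyclesComparison P C n).app V c)) := fun V c =>
    congr(($(RDer.homologyπ_homologyComparison P C n)).app V c)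
  have hi : ∀ (V : Z.Opens) (c : Γ(gC.cycles n, V)),
      (C.iCycles n).app (g ⁻¹ᵁ V) (show Γ(C.cycles n, g ⁻¹ᵁ V) from (RDer.cyclesComparison P C n).app V c) =
        (show Γ(C.X n, g ⁻¹ᵁ V) from (gC.iCycles n).app V c) := fun V c =>
    congr(($(RDer.cyclesComparison_i P C n)).app V c)
  have surj : ∀ V : Z.Opens, IsAffineOpen V → Function.Surjective ((RDer.homologyComparison P C n).app V) := by
    intro V hV q
    let q' : Γ(C.homology n, g ⁻¹ᵁ V) := q
    obtain ⟨c, hc⟩ := hC.surjective (hV.preimage g) (κ.hom.app (g ⁻¹ᵁ V) q')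
    have hq : (C.homologyπ n).app (g ⁻¹ᵁ V) c = q' :=
      app_injective κ.hom (g ⁻¹ᵁ V) ((congr(($hκ).app (g ⁻¹ᵁ V) c)).trans hc)
    haveI : Mono (ShortComplex.mk (gC.iCycles n) (gC.d n ((ComplexShape.up ℕ).next n)) (gC.iCycles_d _ _)).f :=
      inferInstanceAs (Mono (gC.iCycles n))
    obtain ⟨c', hc'⟩ := exists_of_exact (T := ShortComplex.mk (gC.iCycles n)
        (gC.d n ((ComplexShape.up ℕ).next n)) (gC.iCycles_d _ _))
      (ShortComplex.exact_of_f_is_kernel _ (gC.cyclesIsKernel n _ rfl))
      (show Γ(gC.X n, V) from (C.iCycles n).app (g ⁻¹ᵁ V) c)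
      (congr(($(C.iCycles_d n ((ComplexShape.up ℕ).next n))).app (g ⁻¹ᵁ V) c))
    refine ⟨(gC.homologyπ n).app V c', (hcomm V c').trans ?_⟩
    refine Eq.trans ?_ hq
    exact congrArg ((C.homologyπ n).app (g ⁻¹ᵁ V))
      (app_injective (C.iCycles n) (g ⁻¹ᵁ V) ((hi V c').trans hc'))
  have inj : ∀ V : Z.Opens, IsAffineOpen V → Function.Injective ((RDer.homologyComparison P C n).app V) := by
    intro V _
    refine (injective_iff_map_eq_zero ((RDer.homologyComparison P C n).app V).hom).2 fun h hh => ?_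
    refine eq_zero_of_locally V h fun p hp => ?_
    obtain ⟨O, i, hpO, c, hc⟩ := exists_local_preimage (gC.homologyπ n) h hp
    obtain ⟨_, ⟨V', hV', rfl⟩, hpV', hle⟩ := Z.isBasis_affineOpens.exists_subset_of_mem_open hpO O.isOpen
    refine ⟨V', homOfLE ((show V' ≤ O from hle).trans i), hpV', ?_⟩
    let c₁ := rs (gC.cycles n) (show V' ≤ O from hle) c
    have hc₁ : (gC.homologyπ n).app V' c₁ = rs (gC.homology n) ((show V' ≤ O from hle).trans i) h := by
      rw [app_rs, hc, rs_rs]
    show rs (gC.homology n) _ h = 0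
    rw [← hc₁]
    let cc : Γ(C.cycles n, g ⁻¹ᵁ V') := (RDer.cyclesComparison P C n).app V' c₁
    have h0 : (C.homologyπ n).app (g ⁻¹ᵁ V') cc = 0 := by
      refine (hcomm V' c₁).symm.trans ?_
      rw [hc₁]
      refine (map_app_comm (RDer.homologyComparison P C n) (homOfLE _) h).trans ?_
      exact (congrArg _ hh).trans (map_zero _)
    obtain ⟨b, hb⟩ := hC.mem_range (hV'.preimage g) cc
      ((congr(($hκ).app (g ⁻¹ᵁ V') cc)).symm.trans ((congrArg (κ.hom.app (g ⁻¹ᵁ V')) h0).trans (map_zero _)))
    have e : (gC.toCycles pr n).app V' (show Γ(gC.X pr, V') from b) = c₁ := by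
      refine app_injective (gC.iCycles n) V' ?_
      refine (congr(($(gC.toCycles_i pr n)).app V' (show Γ(gC.X pr, V') from b))).trans ?_
      refine Eq.trans ?_ (hi V' c₁)
      refine Eq.trans ?_ (congrArg ((C.iCycles n).app (g ⁻¹ᵁ V')) hb)
      exact (congr(($(C.toCycles_i pr n)).app (g ⁻¹ᵁ V') b)).symm
    rw [← e]
    exact congr(($(gC.toCycles_comp_homologyπ pr n)).app V' (show Γ(gC.X pr, V') from b))
  exact isIso_of_isBasis _ Z.isBasis_affineOpens fun V hV => ⟨inj V hV, surj V hV⟩

/-- The second edge map for an affine second morphism is an isomorphism. -/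
theorem isIso_lerayEdgeOut {X : Scheme.{u}} (f : X ⟶ Y) [QuasiCompact f] [QuasiSeparated f]
    [HasInjectiveResolutions X.Modules] {M : X.Modules} (hM : Coh.IsQCoh M) (p : ℕ) :
    IsIso (CohBC.lerayEdgeOut f g p M) := by
  haveI := preservesFiniteLimits_pushforward g
  let I := injectiveResolution M
  haveI := isIso_homologyComparison g (pushCx f I.cocomplex) p
    (locRange_toCycles f hM (isRes_injectiveResolution I) p)
  rw [CohBC.lerayEdgeOut, RDer.edgeOut]
  exact IsIso.comp_isIso

end Groth.Agent.CohBC
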