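import Groth.Agent.CohBC.BaseChange
import Groth.Prelude.Def_RDer
import Mathlib.AlgebraicGeometry.Morphisms.Flat

/-!
# The base change morphism between homology sheaves is an isomorphism
-/

set_option backward.isDefEq.respectTransparency false
set_option backward.isDefEq.respectTransparency.types false
set_option linter.style.haveILetI false
set_option autoImplicit false

universe u

open CategoryTheory CategoryTheory.Limits AlgebraicGeometry TopologicalSpace Opposite TensorProduct

namespace Groth.Agent.CohBC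

open Groth.Agent.QCoh

variable {X S X' S' : Scheme.{u}} {f : X ⟶ S} {g : S' ⟶ S} {g' : X' ⟶ X} {f' : X' ⟶ S'}
  {M : X.Modules} {M' : X'.Modules} {η : M ⟶ (Scheme.Modules.pushforward g').obj M'}

/-- The two composites of direct images around a square. -/
noncomputable abbrev sqIso (w : g' ≫ f = f' ≫ g) :
    Scheme.Modules.pushforward g' ⋙ Scheme.Modules.pushforward f ≅
      Scheme.Modules.pushforward f' ⋙ Scheme.Modules.pushforward g :=
  Scheme.Modules.pushforwardComp g' f ≪≫ Scheme.Modules.pushforwardCongr w ≪≫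
    (Scheme.Modules.pushforwardComp f' g).symm

theorem preservesFiniteLimits_pushforward (g : S' ⟶ S) :
    PreservesFiniteLimits (Scheme.Modules.pushforward g) :=
  haveI := (Scheme.Modules.pullbackPushforwardAdjunction g).isRightAdjoint
  inferInstance

variable (D : ResSquare f g g' f' η)

/-- The map between the direct images of the resolutions. -/
noncomputable def pushPsi : pushCx f D.K ⟶
    ((Scheme.Modules.pushforward g).mapHomologicalComplex _).obj (pushCx f' D.L) :=
  ((Scheme.Modules.pushforward f).mapHomologicalComplex _).map D.ψ ≫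
    (NatTrans.mapHomologicalComplex (sqIso D.sq.w).hom (ComplexShape.up ℕ)).app D.L

/-- The base change map between the homology sheaves, in adjoint form. -/
noncomputable def αSh (n : ℕ) : hSh f D.K n ⟶ (Scheme.Modules.pushforward g).obj (hSh f' D.L n) :=
  haveI := preservesFiniteLimits_pushforward g
  HomologicalComplex.homologyMap (pushPsi D) n ≫
    RDer.homologyComparison (Scheme.Modules.pushforward g) (pushCx f' D.L) n

variable {U : S.Opens} {W : S'.Opens} (hle : W ≤ g ⁻¹ᵁ U)

theorem secMap_pushPsi (i : ℕ) (x : Γ(D.K.X i, f ⁻¹ᵁ U)) :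
    (show Γ(D.L.X i, f' ⁻¹ᵁ W) from secMap g ((pushPsi D).f i) hle (show Γ((pushCx f D.K).X i, U) from x)) =
      secMap g' (D.ψ.f i) (D.le_pre' hle) x := by
  let z : Γ(D.L.X i, g' ⁻¹ᵁ (f ⁻¹ᵁ U)) := (D.ψ.f i).app (f ⁻¹ᵁ U) x
  have e : g' ⁻¹ᵁ (f ⁻¹ᵁ U) = f' ⁻¹ᵁ (g ⁻¹ᵁ U) := by
    rw [← Scheme.Hom.comp_preimage, ← Scheme.Hom.comp_preimage, D.sq.w]
  show (D.L.X i).presheaf.map (homOfLE (f'.preimage_mono hle)).op
      ((D.L.X i).presheaf.map (eqToHom e.symm).op z) =
    (D.L.X i).presheaf.map (homOfLE (D.le_pre' hle)).op z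
  exact QCoh.map_map (homOfLE (f'.preimage_mono hle)) (eqToHom e.symm) z

theorem secMap_αSh (n : ℕ) (z : (topCx f D.K U).cycles n) (z' : (topCx f' D.L W).cycles n)
    (hz : (show Γ(D.L.X n, f' ⁻¹ᵁ W) from (topCx f' D.L W).iCycles n z') =
      secMap g' (D.ψ.f n) (D.le_pre' hle) (show Γ(D.K.X n, f ⁻¹ᵁ U) from (topCx f D.K U).iCycles n z)) :
    secMap g (αSh D n) hle (cls f D.K U n ((topCx f D.K U).homologyπ n z)) =
      cls f' D.L W n ((topCx f' D.L W).homologyπ n z') := by
  haveI := preservesFiniteLimits_pushforward g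
  rw [cls_π, cls_π]
  let P := Scheme.Modules.pushforward g
  let C := pushCx f' D.L
  let δ : (pushCx f D.K).cycles n ⟶ P.obj (C.cycles n) :=
    HomologicalComplex.cyclesMap (pushPsi D) n ≫ RDer.cyclesComparison P C n
  have h1 : (pushCx f D.K).homologyπ n ≫ αSh D n = δ ≫ P.map (C.homologyπ n) := by
    rw [αSh, HomologicalComplex.homologyπ_naturality_assoc, RDer.homologyπ_homologyComparison, Category.assoc]
  have h2 : δ ≫ P.map (C.iCycles n) = (pushCx f D.K).iCycles n ≫ (pushPsi D).f n := by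
    rw [Category.assoc, RDer.cyclesComparison_i, HomologicalComplex.cyclesMap_i]
  let c := cycSec f D.K U n z
  have e1 : (αSh D n).app U (((pushCx f D.K).homologyπ n).app U c) =
      (show Γ(P.obj (hSh f' D.L n), U) from (C.homologyπ n).app (g ⁻¹ᵁ U) (δ.app U c)) :=
    congr(($h1).app U c)
  unfold secMap
  rw [e1]
  refine (map_app_comm (C.homologyπ n) (homOfLE hle) (δ.app U c)).symm.trans ?_
  refine congrArg ((C.homologyπ n).app W) (app_injective (C.iCycles n) W ?_)
  refine (map_app_comm (C.iCycles n) (homOfLE hle) (δ.app U c)).trans ?_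
  refine Eq.trans ?_ (iCycles_cycSec f' D.L W n z').symm
  refine Eq.trans ?_ (hz.symm)
  refine Eq.trans ?_ (secMap_pushPsi D hle n _)
  refine congrArg ((C.X n).presheaf.map (homOfLE hle).op) ?_
  refine (congr(($h2).app U c) : _).trans ?_
  exact congrArg ((pushPsi D).f n |>.app U) (iCycles_cycSec f D.K U n z)

include hle in
theorem isBCAt_αSh [QuasiCompact f] [QuasiSeparated f] [Flat g] (hU : IsAffineOpen U) (hW : IsAffineOpen W)
    (n : ℕ) : IsBCAt g (αSh D n) U W hle := by
  haveI : QuasiCompact f' := MorphismProperty.of_isPullback D.sq inferInstance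
  haveI : QuasiSeparated f' := MorphismProperty.of_isPullback D.sq inferInstance
  letI : Algebra Γ(S, U) Γ(S', W) := (g.appLE U W hle).hom.toAlgebra
  haveI : Module.Flat Γ(S, U) Γ(S', W) := g.flat_appLE hU hW hle
  let Q := hSh f' D.L n
  letI : Module Γ(S, U) Γ(Q, W) := Module.compHom _ (g.appLE U W hle).hom
  haveI : IsScalarTower Γ(S, U) Γ(S', W) Γ(Q, W) := .of_algebraMap_smul fun _ _ => rfl
  show ∀ l : Γ(hSh f D.K n, U) →ₗ[Γ(S, U)] Γ(Q, W), (∀ x, l x = secMap g (αSh D n) hle x) →
    IsBaseChange Γ(S', W) l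
  intro l hl
  obtain ⟨μ, hμ⟩ := D.exists_bc hU hW hle (fun _ => rfl) n
  let eU : (topCx f D.K U).homology n ≃ₗ[Γ(S, U)] Γ(hSh f D.K n, U) :=
    LinearEquiv.ofBijective (cls f D.K U n).hom (cls_bijective f D.K U n (locRange_toCycles f D.qM D.hK n) hU)
  let eW : (topCx f' D.L W).homology n ≃ₗ[Γ(S', W)] Γ(Q, W) :=
    LinearEquiv.ofBijective (cls f' D.L W n).hom (cls_bijective f' D.L W n (locRange_toCycles f' D.qM' D.hL n) hW)
  let E : Γ(S', W) ⊗[Γ(S, U)] Γ(hSh f D.K n, U) ≃ₗ[Γ(S', W)] Γ(Q, W) :=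
    (LinearEquiv.baseChange Γ(S, U) Γ(S', W) _ _ eU.symm).trans (μ.toLinearEquiv.trans eW)
  refine IsBaseChange.of_equiv E fun x => ?_
  obtain ⟨q, rfl⟩ := eU.surjective x
  obtain ⟨z, rfl⟩ := topCx_homologyπ_surjective f D.K U n q
  obtain ⟨z', hz', hμz⟩ := hμ z
  rw [hl]
  refine Eq.trans ?_ (secMap_αSh D hle n z z' hz').symm
  show eW (μ.toLinearEquiv ((1 : Γ(S', W)) ⊗ₜ[Γ(S, U)] eU.symm (eU _))) = _
  rw [LinearEquiv.symm_apply_apply]
  exact congrArg eW hμz

theorem isQCoh_hSh [QuasiCompact f] [QuasiSeparated f] (n : ℕ) : Coh.IsQCoh (hSh f D.K n) :=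
  (isQCoh_iff_iso (cokerIso f D.K n).symm).2 (locRange_toCycles f D.qM D.hK n).isQCoh

/-- Flat base change for homology sheaves of resolutions. -/
theorem isIso_transpose_αSh [QuasiCompact f] [QuasiSeparated f] [Flat g] (n : ℕ) :
    IsIso (((Scheme.Modules.pullbackPushforwardAdjunction g).homEquiv _ _).symm (αSh D n)) :=
  isIso_transpose g _ (isQCoh_hSh D n) fun _ hU _ hW hle => isBCAt_αSh D hle hU hW n

end Groth.Agent.CohBC
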