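import Groth.Agent.CohBC.Res
import Groth.Agent.QCoh.GodMV
import Groth.Agent.QCoh.GodBC
import Groth.Agent.RingPO.Props2

/-!
# Flat base change for the sections of flasque resolutions
-/

set_option backward.isDefEq.respectTransparency false
set_option backward.isDefEq.respectTransparency.types false
set_option linter.style.haveILetI false
set_option autoImplicit false

universe u

open CategoryTheory CategoryTheory.Limits AlgebraicGeometry TopologicalSpace Opposite TensorProduct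

namespace Groth.Agent.CohBC

open Groth.Agent.QCoh

variable {X S : Scheme.{u}} (f : X ⟶ S) {U : S.Opens}

/-- The complex of sections over an open. -/
noncomputable abbrev secCx {V : X.Opens} (h : V ≤ f ⁻¹ᵁ U) (K : CochainComplex X.Modules ℕ) :
    CochainComplex (ModuleCat.{u} Γ(S, U)) ℕ :=
  ((secF f h).mapHomologicalComplex _).obj K

/-- Restriction of the complexes of sections. -/
noncomputable abbrev secCxRes {V V' : X.Opens} (h : V ≤ f ⁻¹ᵁ U) (h' : V' ≤ f ⁻¹ᵁ U) (i : V' ≤ V)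
    (K : CochainComplex X.Modules ℕ) : secCx f h K ⟶ secCx f h' K :=
  (NatTrans.mapHomologicalComplex (secRes f h h' i) _).app K

theorem secCx_d_apply {V : X.Opens} (h : V ≤ f ⁻¹ᵁ U) (K : CochainComplex X.Modules ℕ) (i j : ℕ)
    (x : Γ(K.X i, V)) : (show Γ(K.X j, V) from (secCx f h K).d i j x) = (K.d i j).app V x := rfl

section mv

variable (K : CochainComplex X.Modules ℕ) (hfl : ∀ n, IsFlasqueMod (K.X n))

theorem secCx_mvZero {P Q W R : X.Opens} (hP : P ≤ f ⁻¹ᵁ U) (hQ : Q ≤ f ⁻¹ᵁ U) (hW : W ≤ f ⁻¹ᵁ U)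
    (hR : R ≤ f ⁻¹ᵁ U) (a : P ≤ W) (b : Q ≤ W) (c : R ≤ P) (d : R ≤ Q) :
    biprod.lift (secCxRes f hW hP a K) (secCxRes f hW hQ b K) ≫
      (biprod.fst ≫ secCxRes f hP hR c K - biprod.snd ≫ secCxRes f hQ hR d K) = 0 := by
  rw [Preadditive.comp_sub, biprod.lift_fst_assoc, biprod.lift_snd_assoc, sub_eq_zero]
  ext n : 1
  refine ModuleCat.hom_ext (LinearMap.ext fun (x : Γ(K.X n, W)) => ?_)
  show (K.X n).presheaf.map (homOfLE c).op ((K.X n).presheaf.map (homOfLE a).op x) =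
    (K.X n).presheaf.map (homOfLE d).op ((K.X n).presheaf.map (homOfLE b).op x)
  rw [QCoh.map_map, QCoh.map_map]
  rfl

include hfl in
theorem secCx_mv_shortExact {P Q W R : X.Opens} (hP : P ≤ f ⁻¹ᵁ U) (hQ : Q ≤ f ⁻¹ᵁ U) (hW : W ≤ f ⁻¹ᵁ U)
    (hR : R ≤ f ⁻¹ᵁ U) (eW : W = P ⊔ Q) (eR : R = P ⊓ Q) (a : P ≤ W) (b : Q ≤ W) (c : R ≤ P) (d : R ≤ Q) :
    (ShortComplex.mk (biprod.lift (secCxRes f hW hP a K) (secCxRes f hW hQ b K))
      (biprod.fst ≫ secCxRes f hP hR c K - biprod.snd ≫ secCxRes f hQ hR d K)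
      (secCx_mvZero f K hP hQ hW hR a b c d)).ShortExact := by
  refine HomologicalComplex.shortExact_of_degreewise_shortExact _ fun n => ?_
  let G := K.X n
  let F := (biprod.lift (secCxRes f hW hP a K) (secCxRes f hW hQ b K)).f n
  let pr₁ := (biprod.fst : secCx f hP K ⊞ secCx f hQ K ⟶ _).f n
  let pr₂ := (biprod.snd : secCx f hP K ⊞ secCx f hQ K ⟶ _).f n
  let in₁ := (biprod.inl : _ ⟶ secCx f hP K ⊞ secCx f hQ K).f n
  let in₂ := (biprod.inr : _ ⟶ secCx f hP K ⊞ secCx f hQ K).f n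
  have e1 : ∀ z, pr₁ (F z) = (secCxRes f hW hP a K).f n z := fun z => by
    have e : F ≫ pr₁ = (secCxRes f hW hP a K).f n := by
      simp only [F, pr₁, ← HomologicalComplex.comp_f, biprod.lift_fst]
    exact congr($e z)
  have e2 : ∀ z, pr₂ (F z) = (secCxRes f hW hQ b K).f n z := fun z => by
    have e : F ≫ pr₂ = (secCxRes f hW hQ b K).f n := by
      simp only [F, pr₂, ← HomologicalComplex.comp_f, biprod.lift_snd]
    exact congr($e z)
  have ext2 : ∀ p q, pr₁ p = pr₁ q → pr₂ p = pr₂ q → p = q := fun p q h₁ h₂ => by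
    have ht : pr₁ ≫ in₁ + pr₂ ≫ in₂ = 𝟙 _ := by
      simp only [pr₁, pr₂, in₁, in₂, ← HomologicalComplex.comp_f, ← HomologicalComplex.add_f_apply, biprod.total,
        HomologicalComplex.id_f]
    calc p = in₁ (pr₁ p) + in₂ (pr₂ p) := congr($ht.symm p)
      _ = in₁ (pr₁ q) + in₂ (pr₂ q) := by rw [h₁, h₂]
      _ = q := (congr($ht.symm q)).symm
  have eg : ∀ y, (biprod.fst ≫ secCxRes f hP hR c K - biprod.snd ≫ secCxRes f hQ hR d K).f n y =
      (secCxRes f hP hR c K).f n (pr₁ y) - (secCxRes f hQ hR d K).f n (pr₂ y) := fun y => rfl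
  have hsep : ∀ s t : Γ(G, W), G.presheaf.map (homOfLE a).op s = G.presheaf.map (homOfLE a).op t →
      G.presheaf.map (homOfLE b).op s = G.presheaf.map (homOfLE b).op t → s = t := fun s t h₁ h₂ =>
    TopCat.Sheaf.eq_of_locally_eq₂ ⟨G.presheaf, G.isSheaf⟩ (homOfLE a) (homOfLE b) eW.le s t h₁ h₂
  have hmono : Mono F := (ModuleCat.mono_iff_injective _).2 fun (s : Γ(G, W)) t hst => by
    refine hsep s t ?_ ?_
    · have h := congrArg pr₁ hst
      rw [e1, e1] at h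
      exact h
    · have h := congrArg pr₂ hst
      rw [e2, e2] at h
      exact h
  have hepi : Epi ((biprod.fst ≫ secCxRes f hP hR c K - biprod.snd ≫ secCxRes f hQ hR d K).f n) :=
    (ModuleCat.epi_iff_surjective _).2 fun (t : Γ(G, R)) => by
      obtain ⟨s, hs⟩ := (AddCommGrpCat.epi_iff_surjective _).1 ((hfl n).epi (homOfLE c).op) t
      refine ⟨in₁ s, ?_⟩
      have h₁ : pr₁ (in₁ s) = s := by
        have e : in₁ ≫ pr₁ = 𝟙 _ := by
          simp only [in₁, pr₁, ← HomologicalComplex.comp_f, biprod.inl_fst, HomologicalComplex.id_f]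
        exact congr($e s)
      have h₂ : pr₂ (in₁ s) = 0 := by
        have e : in₁ ≫ pr₂ = 0 := by
          simp only [in₁, pr₂, ← HomologicalComplex.comp_f, biprod.inl_snd, HomologicalComplex.zero_f]
        exact congr($e s)
      rw [eg, h₁, h₂, map_zero, sub_zero]
      exact hs
  have hex : (ShortComplex.mk F ((biprod.fst ≫ secCxRes f hP hR c K - biprod.snd ≫ secCxRes f hQ hR d K).f n)
      (by simp only [F, ← HomologicalComplex.comp_f, secCx_mvZero, HomologicalComplex.zero_f])).Exact := by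
    rw [ShortComplex.moduleCat_exact_iff]
    intro y hy
    replace hy := sub_eq_zero.1 ((eg y).symm.trans hy)
    let s : Γ(G, P) := pr₁ y
    let t : Γ(G, Q) := pr₂ y
    obtain ⟨z, hz, -⟩ := TopCat.Sheaf.existsUnique_gluing' ⟨G.presheaf, G.isSheaf⟩
      (fun i : ULift.{u} Bool => if i.down then P else Q) W
      (fun i => homOfLE (by rcases i with ⟨_ | _⟩; exacts [b, a]))
      (by rw [eW]; exact sup_le (le_iSup_of_le ⟨true⟩ le_rfl) (le_iSup_of_le ⟨false⟩ le_rfl))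
      (fun i => match i with | ⟨true⟩ => s | ⟨false⟩ => t)
      (by
        rintro ⟨_ | _⟩ ⟨_ | _⟩
        · rfl
        · show G.presheaf.map (homOfLE inf_le_left).op t = G.presheaf.map (homOfLE inf_le_right).op s
          have e : Q ⊓ P ≤ R := by rw [eR, inf_comm]
          exact ((QCoh.map_map (homOfLE e) (homOfLE d) t).symm.trans
            ((congrArg (G.presheaf.map (homOfLE e).op) hy.symm).trans (QCoh.map_map (homOfLE e) (homOfLE c) s)))
        · show G.presheaf.map (homOfLE inf_le_left).op s = G.presheaf.map (homOfLE inf_le_right).op t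
          have e : P ⊓ Q ≤ R := by rw [eR]
          exact ((QCoh.map_map (homOfLE e) (homOfLE c) s).symm.trans
            ((congrArg (G.presheaf.map (homOfLE e).op) hy).trans (QCoh.map_map (homOfLE e) (homOfLE d) t)))
        · rfl)
    exact ⟨z, ext2 _ _ ((e1 z).trans (hz ⟨true⟩)) ((e2 z).trans (hz ⟨false⟩))⟩
  exact { exact := hex, mono_f := hmono, epi_g := hepi }

end mv

section psi

variable {X' S' : Scheme.{u}} {f} (g : S' ⟶ S) (g' : X' ⟶ X) (f' : X' ⟶ S') (w : g' ≫ f = f' ≫ g)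
  {W : S'.Opens} (hle : W ≤ g ⁻¹ᵁ U) [Algebra Γ(S, U) Γ(S', W)]
  (halg : ∀ r, algebraMap Γ(S, U) Γ(S', W) r = g.appLE U W hle r)
  {K : CochainComplex X.Modules ℕ} {L : CochainComplex X'.Modules ℕ}
  (ψ : K ⟶ ((Scheme.Modules.pushforward g').mapHomologicalComplex _).obj L)

/-- The part over `W` of the inverse image. -/
abbrev pre (V : X.Opens) (W : S'.Opens) : X'.Opens := g' ⁻¹ᵁ V ⊓ f' ⁻¹ᵁ W

include w in
theorem appLE_square {V : X.Opens} (h : V ≤ f ⁻¹ᵁ U) {V' : X'.Opens} (a : V' ≤ g' ⁻¹ᵁ V)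
    (b : V' ≤ f' ⁻¹ᵁ W) (r : Γ(S, U)) :
    g'.appLE V V' a (f.appLE U V h r) = f'.appLE W V' b (g.appLE U W hle r) := by
  rw [← ConcreteCategory.comp_apply, ← ConcreteCategory.comp_apply, Scheme.Hom.appLE_comp_appLE,
    Scheme.Hom.appLE_comp_appLE]
  have e : ∀ (p q : X' ⟶ S) (hp : V' ≤ p ⁻¹ᵁ U) (hq : V' ≤ q ⁻¹ᵁ U), p = q →
      p.appLE U V' hp = q.appLE U V' hq := by
    rintro p q hp hq rfl; rfl
  rw [e _ _ _ _ w]

/-- Pullback and restriction of the complexes of sections. -/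
noncomputable def secCxMap {V : X.Opens} (h : V ≤ f ⁻¹ᵁ U) :
    secCx f h K ⟶ ((ModuleCat.restrictScalars (algebraMap Γ(S, U) Γ(S', W))).mapHomologicalComplex _).obj
      (secCx f' (inf_le_right : pre g' f' V W ≤ _) L) where
  f n := letI := secMod f h (K.X n); letI := secMod f' (inf_le_right : pre g' f' V W ≤ _) (L.X n)
    ModuleCat.ofHom (X := Γ(K.X n, V))
      (Y := (ModuleCat.restrictScalars (algebraMap Γ(S, U) Γ(S', W))).obj
        ((secF f' (inf_le_right : pre g' f' V W ≤ _)).obj (L.X n)))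
      { toFun := fun x => secMap g' (ψ.f n) inf_le_left x
        map_add' := secMap_add g' _ _
        map_smul' := fun r x => by
          show secMap g' (ψ.f n) (inf_le_left : pre g' f' V W ≤ _) (f.appLE U V h r • x) =
            f'.appLE W (pre g' f' V W) inf_le_right (algebraMap Γ(S, U) Γ(S', W) r) •
              secMap g' (ψ.f n) (inf_le_left : pre g' f' V W ≤ _) x
          rw [secMap_smul_appLE, halg, appLE_square g g' f' w hle h inf_le_left inf_le_right] }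
  comm' p q hpq := by
    refine ModuleCat.hom_ext (LinearMap.ext fun (x : Γ(K.X p, V)) => ?_)
    show (L.d p q).app (pre g' f' V W) (secMap g' (ψ.f p) inf_le_left x) =
      secMap g' (ψ.f q) inf_le_left ((K.d p q).app V x)
    unfold secMap
    rw [map_app_comm]
    exact congrArg _ (congr(($(ψ.comm p q)).app V x))

/-- The base change map of complexes of sections. -/
noncomputable def psi {V : X.Opens} (h : V ≤ f ⁻¹ᵁ U) :
    ((bcFunctor Γ(S, U) Γ(S', W)).mapHomologicalComplex _).obj (secCx f h K) ⟶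
      secCx f' (inf_le_right : pre g' f' V W ≤ _) L :=
  adjunctHom (secCxMap g g' f' w hle halg ψ h)

theorem psi_res {V V₁ : X.Opens} (h : V ≤ f ⁻¹ᵁ U) (h₁ : V₁ ≤ f ⁻¹ᵁ U) (i : V₁ ≤ V) :
    ((bcFunctor Γ(S, U) Γ(S', W)).mapHomologicalComplex _).map (secCxRes f h h₁ i K) ≫
        psi g g' f' w hle halg ψ h₁ =
      psi g g' f' w hle halg ψ h ≫ secCxRes f' (inf_le_right : pre g' f' V W ≤ _)
        (inf_le_right : pre g' f' V₁ W ≤ _) (inf_le_inf_right _ (g'.preimage_mono i)) L := by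
  refine adjunctHom_natural _ _ _ _ fun n (x : Γ(K.X n, V)) => ?_
  show secMap g' (ψ.f n) inf_le_left ((K.X n).presheaf.map (homOfLE i).op x) =
    (L.X n).presheaf.map (homOfLE (inf_le_inf_right _ (g'.preimage_mono i))).op
      (secMap g' (ψ.f n) inf_le_left x)
  rw [secMap_map, map_secMap]

variable [Module.Flat Γ(S, U) Γ(S', W)]

theorem quasiIso_psi_sup (hK : ∀ n, IsFlasqueMod (K.X n)) (hL : ∀ n, IsFlasqueMod (L.X n))
    {P Q : X.Opens} (hP : P ≤ f ⁻¹ᵁ U) (hQ : Q ≤ f ⁻¹ᵁ U)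
    (h₁ : QuasiIso (psi g g' f' w hle halg ψ hP)) (h₂ : QuasiIso (psi g g' f' w hle halg ψ hQ))
    (h₁₂ : QuasiIso (psi g g' f' w hle halg ψ (inf_le_left.trans hP : P ⊓ Q ≤ _))) :
    QuasiIso (psi g g' f' w hle halg ψ (sup_le hP hQ)) := by
  let E := (bcFunctor Γ(S, U) Γ(S', W)).mapHomologicalComplex (ComplexShape.up ℕ)
  have hR : P ⊓ Q ≤ f ⁻¹ᵁ U := inf_le_left.trans hP
  have z₀ : E.map (biprod.lift (secCxRes f (sup_le hP hQ) hP le_sup_left K)
      (secCxRes f (sup_le hP hQ) hQ le_sup_right K)) ≫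
      E.map (biprod.fst ≫ secCxRes f hP hR inf_le_left K - biprod.snd ≫ secCxRes f hQ hR inf_le_right K) = 0 := by
    rw [← Functor.map_comp, secCx_mvZero, Functor.map_zero]
  have hS := map_shortExact' (B := Γ(S', W)) z₀ (secCx_mv_shortExact f K hK (W := P ⊔ Q) (R := P ⊓ Q)
    hP hQ (sup_le hP hQ) hR rfl rfl le_sup_left le_sup_right inf_le_left inf_le_right)
  have eW : pre g' f' (P ⊔ Q) W = pre g' f' P W ⊔ pre g' f' Q W := by
    show g' ⁻¹ᵁ (P ⊔ Q) ⊓ f' ⁻¹ᵁ W = g' ⁻¹ᵁ P ⊓ f' ⁻¹ᵁ W ⊔ g' ⁻¹ᵁ Q ⊓ f' ⁻¹ᵁ W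
    rw [show g' ⁻¹ᵁ (P ⊔ Q) = g' ⁻¹ᵁ P ⊔ g' ⁻¹ᵁ Q from Opens.ext Set.preimage_union]
    exact inf_sup_right _ _ _
  have eR : pre g' f' (P ⊓ Q) W = pre g' f' P W ⊓ pre g' f' Q W := by
    show g' ⁻¹ᵁ (P ⊓ Q) ⊓ f' ⁻¹ᵁ W = g' ⁻¹ᵁ P ⊓ f' ⁻¹ᵁ W ⊓ (g' ⁻¹ᵁ Q ⊓ f' ⁻¹ᵁ W)
    rw [show g' ⁻¹ᵁ (P ⊓ Q) = g' ⁻¹ᵁ P ⊓ g' ⁻¹ᵁ Q from Opens.ext Set.preimage_inter]
    exact inf_inf_distrib_right _ _ _
  have hS' := secCx_mv_shortExact f' L hL (P := pre g' f' P W) (Q := pre g' f' Q W)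
    (W := pre g' f' (P ⊔ Q) W) (R := pre g' f' (P ⊓ Q) W) inf_le_right inf_le_right inf_le_right inf_le_right
    eW eR (inf_le_inf_right _ (g'.preimage_mono le_sup_left))
    (inf_le_inf_right _ (g'.preimage_mono le_sup_right)) (inf_le_inf_right _ (g'.preimage_mono inf_le_left))
    (inf_le_inf_right _ (g'.preimage_mono inf_le_right))
  exact quasiIso_mv E _ _ _ _ z₀ _
    (psi_res g g' f' w hle halg ψ (sup_le hP hQ) hP le_sup_left).symm
    (psi_res g g' f' w hle halg ψ (sup_le hP hQ) hQ le_sup_right).symm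
    (psi_res g g' f' w hle halg ψ hP hR inf_le_left)
    (psi_res g g' f' w hle halg ψ hQ hR inf_le_right) hS hS' h₁ h₂ h₁₂

end psi

end Groth.Agent.CohBC
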