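import Groth.Agent.CohBC.Sec
import Groth.Agent.QCoh.RpushGod

/-!
# Flasque resolutions and their sections
-/

set_option backward.isDefEq.respectTransparency false
set_option backward.isDefEq.respectTransparency.types false
set_option linter.style.haveILetI false
set_option autoImplicit false

universe u

open CategoryTheory CategoryTheory.Limits AlgebraicGeometry TopologicalSpace Opposite

namespace Groth.Agent.CohBC

open Groth.Agent.QCoh

variable {X : Scheme.{u}} {M : X.Modules} {K : CochainComplex X.Modules ℕ}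

/-- `K` is a resolution of `M` by flasque modules. -/
structure IsRes (M : X.Modules) (K : CochainComplex X.Modules ℕ) (a : M ⟶ K.X 0) : Prop where
  flasque : ∀ n, IsFlasqueMod (K.X n)
  mono : Mono a
  zero : a ≫ K.d 0 1 = 0
  exact₀ : (ShortComplex.mk a (K.d 0 1) zero).Exact
  exact_succ : ∀ n, (ShortComplex.mk (K.d n (n + 1)) (K.d (n + 1) (n + 2)) (K.d_comp_d _ _ _)).Exact

/-- The cycles. -/
noncomputable abbrev cyc (K : CochainComplex X.Modules ℕ) (n : ℕ) : X.Modules := kernel (K.d n (n + 1))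

/-- The boundary into the next cycles. -/
noncomputable abbrev toCyc (K : CochainComplex X.Modules ℕ) (n : ℕ) : K.X n ⟶ cyc K (n + 1) :=
  kernel.lift _ (K.d n (n + 1)) (K.d_comp_d _ _ _)

/-- One step of a resolution. -/
noncomputable abbrev cycSC (K : CochainComplex X.Modules ℕ) (n : ℕ) : ShortComplex X.Modules :=
  ShortComplex.mk (kernel.ι (K.d n (n + 1))) (toCyc K n) (by
    rw [← cancel_mono (kernel.ι (K.d (n + 1) (n + 1 + 1)))]
    simp)

variable {a : M ⟶ K.X 0}

theorem IsRes.cycSC_shortExact (hK : IsRes M K a) (n : ℕ) : (cycSC K n).ShortExact := by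
  haveI : Epi (toCyc K n) := (ShortComplex.exact_iff_epi_kernel_lift _).1 (hK.exact_succ n)
  haveI : Epi (cycSC K n).g := ‹_›
  haveI : Mono (cycSC K n).f := inferInstanceAs (Mono (kernel.ι _))
  refine { exact := ?_, mono_f := ‹_›, epi_g := ‹_› }
  let φ : cycSC K n ⟶ ShortComplex.mk (kernel.ι (K.d n (n + 1))) (K.d n (n + 1)) (kernel.condition _) :=
    { τ₁ := 𝟙 _
      τ₂ := 𝟙 _
      τ₃ := kernel.ι _ }
  haveI : Epi φ.τ₁ := inferInstanceAs (Epi (𝟙 _))
  haveI : IsIso φ.τ₂ := inferInstanceAs (IsIso (𝟙 _))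
  haveI : Mono φ.τ₃ := inferInstanceAs (Mono (kernel.ι _))
  exact (ShortComplex.exact_iff_of_epi_of_isIso_of_mono φ).2
    (ShortComplex.exact_of_f_is_kernel _ (kernelIsKernel _))

theorem IsRes.isIso_lift (hK : IsRes M K a) : IsIso (kernel.lift (K.d 0 1) a hK.zero) := by
  haveI := hK.mono
  haveI : Mono (kernel.lift (K.d 0 1) a hK.zero) := mono_of_mono_fac (kernel.lift_ι _ _ _)
  haveI : Epi (kernel.lift (K.d 0 1) a hK.zero) := (ShortComplex.exact_iff_epi_kernel_lift _).1 hK.exact₀
  exact isIso_of_mono_of_epi _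

theorem IsRes.subsingleton_HU_cyc (hK : IsRes M K a) {V : X.Opens} : ∀ (n k : ℕ),
    Subsingleton (CohTop.HU (X := X.toPresheafedSpace.carrier) (abSheaf M) (n + k + 1) V) →
    Subsingleton (CohTop.HU (X := X.toPresheafedSpace.carrier) (abSheaf (cyc K n)) (k + 1) V) := by
  intro n
  induction n with
  | zero =>
    intro k hk
    rw [Nat.zero_add] at hk
    haveI := hK.isIso_lift
    let e := ((Sheaf.cohomologyPresheafFunctor (Opens.grothendieckTopology X) (k + 1)).mapIso
      ((toAbFunctor X).mapIso (asIso (kernel.lift (K.d 0 1) a hK.zero)).symm)).app (op V)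
    exact @Equiv.subsingleton _ _ e.addCommGroupIsoToAddEquiv.toEquiv hk
  | succ n ih =>
    intro k hk
    have h' := ih (k + 1) (by rw [show n + (k + 1) + 1 = n + 1 + k + 1 by omega]; exact hk)
    exact SiteBase.subsingleton_HU_X₃ (toAb_shortExact (hK.cycSC_shortExact n)) V (k + 1) h'
      (SiteBase.subsingleton_HU_of_isFlasque (X := X.toPresheafedSpace.carrier) (hF := hK.flasque n) _ V k)

theorem IsRes.aug_injective (hK : IsRes M K a) (V : X.Opens) : Function.Injective (a.app V) :=
  haveI := hK.mono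
  app_injective a V

theorem IsRes.exists_aug (hK : IsRes M K a) {V : X.Opens} (x : Γ(K.X 0, V))
    (hx : (K.d 0 1).app V x = 0) : ∃ m, a.app V m = x :=
  haveI := hK.mono
  haveI : Mono (ShortComplex.mk a (K.d 0 1) hK.zero).f := hK.mono
  exists_of_exact hK.exact₀ x hx

theorem IsRes.exists_d (hK : IsRes M K a) {V : X.Opens} {n : ℕ}
    (h : Subsingleton (CohTop.HU (X := X.toPresheafedSpace.carrier) (abSheaf M) (n + 1) V))
    (x : Γ(K.X (n + 1), V)) (hx : (K.d (n + 1) (n + 2)).app V x = 0) :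
    ∃ y, (K.d n (n + 1)).app V y = x := by
  obtain ⟨z, hz⟩ := exists_of_exact (T := ShortComplex.mk (kernel.ι (K.d (n + 1) (n + 2)))
    (K.d (n + 1) (n + 2)) (kernel.condition _)) (ShortComplex.exact_of_f_is_kernel _ (kernelIsKernel _)) x hx
  obtain ⟨y, hy⟩ := SiteBase.surjective_sections_of_HU_one (toAb_shortExact (hK.cycSC_shortExact n)) V
    (hK.subsingleton_HU_cyc n 0 h) z
  refine ⟨y, ?_⟩
  rw [← hz, ← show (toCyc K n).app V y = z from hy]
  exact (congr(($(kernel.lift_ι (K.d (n + 1) (n + 2)) (K.d n (n + 1)) (K.d_comp_d _ _ _))).app V y)).symm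

end Groth.Agent.CohBC
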