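import Groth.Agent.CohBC.Transpose

/-!
# Sections over an open as modules over the functions on an open of the base
-/

set_option backward.isDefEq.respectTransparency false
set_option backward.isDefEq.respectTransparency.types false
set_option linter.style.haveILetI false
set_option autoImplicit false

universe u

open CategoryTheory CategoryTheory.Limits AlgebraicGeometry TopologicalSpace Opposite TensorProduct

namespace Groth.Agent.CohBC

open Groth.Agent.QCoh

variable {X S : Scheme.{u}} (f : X ⟶ S) {U : S.Opens} {V : X.Opens} (h : V ≤ f ⁻¹ᵁ U)

/-- Sections over `V` as a module over `Γ(S, U)`. -/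
@[reducible] noncomputable def secMod (M : X.Modules) : Module Γ(S, U) Γ(M, V) :=
  Module.compHom _ (f.appLE U V h).hom

/-- A morphism of modules on sections, linearly. -/
noncomputable def secLinF {M N : X.Modules} (φ : M ⟶ N) :
    letI := secMod f h M; letI := secMod f h N
    Γ(M, V) →ₗ[Γ(S, U)] Γ(N, V) :=
  letI := secMod f h M; letI := secMod f h N
  { toFun := φ.app V
    map_add' := map_add (φ.app V).hom
    map_smul' := fun _ x => Scheme.Modules.Hom.app_smul φ _ x }

/-- Sections over `V`, as a functor to `Γ(S, U)`-modules. -/
noncomputable def secF : X.Modules ⥤ ModuleCat.{u} Γ(S, U) where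
  obj M := letI := secMod f h M; ModuleCat.of _ Γ(M, V)
  map {M N} φ := letI := secMod f h M; letI := secMod f h N; ModuleCat.ofHom (secLinF f h φ)
  map_id M := by
    refine ModuleCat.hom_ext ?_
    apply DFunLike.ext
    intro _
    rfl
  map_comp _ _ := by
    refine ModuleCat.hom_ext ?_
    apply DFunLike.ext
    intro _
    rfl

instance : (secF f h).Additive where
  map_add {_ _ _ _} := by
    refine ModuleCat.hom_ext ?_
    apply DFunLike.ext
    intro _
    rfl

/-- Restriction of sections, naturally in the module. -/
noncomputable def secRes {V' : X.Opens} (h' : V' ≤ f ⁻¹ᵁ U) (i : V' ≤ V) : secF f h ⟶ secF f h' where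
  app M := letI := secMod f h M; letI := secMod f h' M
    ModuleCat.ofHom (X := Γ(M, V)) (Y := Γ(M, V'))
      { toFun := M.presheaf.map (homOfLE i).op
        map_add' := map_add (M.presheaf.map (homOfLE i).op).hom
        map_smul' := fun r x => (QCoh.map_smul' (M := M) (homOfLE i) _ x).trans
          (congrArg (fun t => t • M.presheaf.map (homOfLE i).op x)
            (congr($(f.appLE_map h (homOfLE i).op) r))) }
  naturality M N φ := by
    refine ModuleCat.hom_ext (LinearMap.ext fun (x : Γ(M, V)) => ?_)
    exact (map_app_comm φ (homOfLE i) x).symm

/-- In a left exact sequence, a section killed by the second map comes from the first. -/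
theorem exists_of_exact {T : ShortComplex X.Modules} (hT : T.Exact) [Mono T.f] (x : Γ(T.X₂, V))
    (hx : T.g.app V x = 0) : ∃ a, T.f.app V a = x := by
  let T' := ShortComplex.mk T.f (cokernel.π T.f) (cokernel.condition _)
  have hT' : T'.ShortExact :=
    { exact := ShortComplex.exact_of_g_is_cokernel _ (cokernelIsCokernel _) }
  haveI : Mono (cokernel.desc T.f T.g T.zero) := hT.mono_cokernelDesc
  refine exists_app_f_eq hT' V x (app_injective (cokernel.desc T.f T.g T.zero) V ?_)
  refine ((congr(($(cokernel.π_desc T.f T.g T.zero)).app V x)).trans hx).trans ?_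
  exact (map_zero _).symm

end Groth.Agent.CohBC
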