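import Groth.Agent.QCoh.ClosedPush
import Groth.Agent.QCoh.PullbackBC
import Groth.Agent.QCoh.FlatBC

/-!
# When the transpose of a map into a direct image is an isomorphism
-/

set_option backward.isDefEq.respectTransparency false
set_option backward.isDefEq.respectTransparency.types false
set_option linter.style.haveILetI false
set_option autoImplicit false

universe u

open CategoryTheory CategoryTheory.Limits AlgebraicGeometry TopologicalSpace Opposite TensorProduct

namespace Groth.Agent.CohBC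

open Groth.Agent.QCoh

variable {S S' : Scheme.{u}} (g : S' ⟶ S) {P : S.Modules} {Q : S'.Modules}
  (α : P ⟶ (Scheme.Modules.pushforward g).obj Q)

/-- Sections over `W ⊆ g⁻¹U` are the base change of the sections over `U`. -/
def IsBCAt (U : S.Opens) (W : S'.Opens) (hle : W ≤ g ⁻¹ᵁ U) : Prop :=
  letI : Algebra Γ(S, U) Γ(S', W) := (g.appLE U W hle).hom.toAlgebra
  letI : Module Γ(S, U) Γ(Q, W) := Module.compHom _ (g.appLE U W hle).hom
  haveI : IsScalarTower Γ(S, U) Γ(S', W) Γ(Q, W) := .of_algebraMap_smul fun _ _ => rfl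
  ∀ l : Γ(P, U) →ₗ[Γ(S, U)] Γ(Q, W), (∀ x, l x = secMap g α hle x) → IsBaseChange Γ(S', W) l

theorem secMap_smul_appLE {U : S.Opens} {W : S'.Opens} (hle : W ≤ g ⁻¹ᵁ U) (r : Γ(S, U)) (x : Γ(P, U)) :
    secMap g α hle (r • x) = g.appLE U W hle r • secMap g α hle x := by
  unfold secMap
  rw [α.app_smul]
  exact QCoh.map_smul' (M := Q) (homOfLE hle) _ _

/-- The transpose of `α` is an isomorphism if `α` changes base on affine opens. -/
theorem isIso_transpose (hP : Coh.IsQCoh P)
    (h : ∀ (U : S.Opens), IsAffineOpen U → ∀ (W : S'.Opens), IsAffineOpen W →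
      ∀ hle : W ≤ g ⁻¹ᵁ U, IsBCAt g α U W hle) :
    IsIso (((Scheme.Modules.pullbackPushforwardAdjunction g).homEquiv P Q).symm α) := by
  let adj := Scheme.Modules.pullbackPushforwardAdjunction g
  let β : (Scheme.Modules.pullback g).obj P ⟶ Q := (adj.homEquiv P Q).symm α
  have hβ : ∀ (U : S.Opens) (W : S'.Opens) (hle : W ≤ g ⁻¹ᵁ U) (m : Γ(P, U)),
      β.app W (pullSec g P hle m) = secMap g α hle m := by
    intro U W hle m
    have h1 : adj.unit.app _ ≫ (Scheme.Modules.pushforward g).map β = α :=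
      (adj.homEquiv_unit _ _ β).symm.trans (Equiv.apply_symm_apply _ α)
    have h2 : β.app (g ⁻¹ᵁ U) ((adj.unit.app P).app U m) = α.app U m := congrArg (fun t => t.app U m) h1
    exact (map_app_comm β (homOfLE hle) _).trans (congrArg _ h2)
  show IsIso β
  refine isIso_of_isBasis β
    (B := {W | IsAffineOpen W ∧ ∃ U : S.Opens, IsAffineOpen U ∧ W ≤ g ⁻¹ᵁ U}) ?_ ?_
  · refine TopologicalSpace.Opens.isBasis_iff_nbhd.2 fun {V} x hx => ?_
    obtain ⟨_, ⟨U, hU, rfl⟩, hxU, -⟩ :=
      S.isBasis_affineOpens.exists_subset_of_mem_open (Set.mem_univ (g x)) isOpen_univ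
    obtain ⟨_, ⟨W, hW, rfl⟩, hxW, hWle⟩ := S'.isBasis_affineOpens.exists_subset_of_mem_open
      (show x ∈ V ⊓ g ⁻¹ᵁ U from ⟨hx, hxU⟩) (V ⊓ g ⁻¹ᵁ U).isOpen
    exact ⟨W, ⟨hW, U, hU, fun y hy => (hWle hy).2⟩, hxW, fun y hy => (hWle hy).1⟩
  rintro W ⟨hW, U, hU, hle⟩
  letI : Algebra Γ(S, U) Γ(S', W) := (g.appLE U W hle).hom.toAlgebra
  letI : Module Γ(S, U) Γ(Q, W) := Module.compHom _ (g.appLE U W hle).hom
  haveI : IsScalarTower Γ(S, U) Γ(S', W) Γ(Q, W) := .of_algebraMap_smul fun _ _ => rfl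
  let N := (Scheme.Modules.pullback g).obj P
  letI : Module Γ(S, U) Γ(N, W) := Module.compHom _ (g.appLE U W hle).hom
  haveI : IsScalarTower Γ(S, U) Γ(S', W) Γ(N, W) := .of_algebraMap_smul fun _ _ => rfl
  let l₁ : Γ(P, U) →ₗ[Γ(S, U)] Γ(N, W) :=
    { toFun := pullSec g P hle
      map_add' := pullSec_add g P hle
      map_smul' := pullSec_smul g P hle }
  let l₂ : Γ(P, U) →ₗ[Γ(S, U)] Γ(Q, W) :=
    { toFun := secMap g α hle
      map_add' := secMap_add g α hle
      map_smul' := secMap_smul_appLE g α hle }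
  have hb₁ : IsBaseChange Γ(S', W) l₁ := isBaseChange_pullback hU g hW hP hle (fun _ => rfl) l₁ fun _ => rfl
  have hb₂ : IsBaseChange Γ(S', W) l₂ := h U hU W hW hle l₂ fun _ => rfl
  let ψ : Γ(N, W) →ₗ[Γ(S', W)] Γ(Q, W) :=
    { toFun := β.app W
      map_add' := fun a b => map_add (β.app W).hom a b
      map_smul' := fun r x => Scheme.Modules.Hom.app_smul β r x }
  have hψ : ψ = (hb₁.equiv.symm.trans hb₂.equiv).toLinearMap := hb₁.algHom_ext _ _ fun m => by
    show β.app W (pullSec g P hle m) = hb₂.equiv (hb₁.equiv.symm (l₁ m))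
    rw [hb₁.equiv_symm_apply, hb₂.equiv_tmul, one_smul, hβ]
    rfl
  have : Function.Bijective ψ := by rw [hψ]; exact (hb₁.equiv.symm.trans hb₂.equiv).bijective
  exact this

/-- Conversely, a map with invertible transpose changes base on affine opens. -/
theorem isBCAt_of_isIso_transpose (hP : Coh.IsQCoh P) {U : S.Opens} (hU : IsAffineOpen U) {W : S'.Opens}
    (hW : IsAffineOpen W) (hle : W ≤ g ⁻¹ᵁ U)
    (hiso : IsIso (((Scheme.Modules.pullbackPushforwardAdjunction g).homEquiv P Q).symm α)) :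
    IsBCAt g α U W hle := by
  letI : Algebra Γ(S, U) Γ(S', W) := (g.appLE U W hle).hom.toAlgebra
  letI : Module Γ(S, U) Γ(Q, W) := Module.compHom _ (g.appLE U W hle).hom
  haveI : IsScalarTower Γ(S, U) Γ(S', W) Γ(Q, W) := .of_algebraMap_smul fun _ _ => rfl
  show ∀ l : Γ(P, U) →ₗ[Γ(S, U)] Γ(Q, W), (∀ x, l x = secMap g α hle x) → IsBaseChange Γ(S', W) l
  intro l hl
  let adj := Scheme.Modules.pullbackPushforwardAdjunction g
  let β : (Scheme.Modules.pullback g).obj P ⟶ Q := (adj.homEquiv P Q).symm α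
  haveI : IsIso β := hiso
  let N := (Scheme.Modules.pullback g).obj P
  letI : Module Γ(S, U) Γ(N, W) := Module.compHom _ (g.appLE U W hle).hom
  haveI : IsScalarTower Γ(S, U) Γ(S', W) Γ(N, W) := .of_algebraMap_smul fun _ _ => rfl
  let l₁ : Γ(P, U) →ₗ[Γ(S, U)] Γ(N, W) :=
    { toFun := pullSec g P hle
      map_add' := pullSec_add g P hle
      map_smul' := pullSec_smul g P hle }
  have hb₁ : IsBaseChange Γ(S', W) l₁ := isBaseChange_pullback hU g hW hP hle (fun _ => rfl) l₁ fun _ => rfl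
  let e : Γ(N, W) ≃ₗ[Γ(S', W)] Γ(Q, W) :=
    LinearEquiv.ofBijective
      ({ toFun := β.app W
         map_add' := fun a b => map_add (β.app W).hom a b
         map_smul' := fun r x => Scheme.Modules.Hom.app_smul β r x } : Γ(N, W) →ₗ[Γ(S', W)] Γ(Q, W))
      ⟨app_injective β W, fun q => ⟨(inv β).app W q, congr(($(IsIso.inv_hom_id β)).app W q)⟩⟩
  refine IsBaseChange.of_equiv (hb₁.equiv.trans e) fun x => ?_
  rw [LinearEquiv.trans_apply, hb₁.equiv_tmul, one_smul, hl]
  have h1 : adj.unit.app _ ≫ (Scheme.Modules.pushforward g).map β = α :=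
    (adj.homEquiv_unit _ _ β).symm.trans (Equiv.apply_symm_apply _ α)
  have h2 : β.app (g ⁻¹ᵁ U) ((adj.unit.app P).app U x) = α.app U x := congrArg (fun t => t.app U x) h1
  exact (map_app_comm β (homOfLE hle) _).trans (congrArg _ h2)

theorem isIso_transpose_id (M : S.Modules) :
    IsIso (((Scheme.Modules.pullbackPushforwardAdjunction (𝟙 S)).homEquiv M M).symm
      ((Scheme.Modules.pushforwardId S).inv.app M)) := by
  haveI : (Scheme.Modules.pushforward (𝟙 S)).IsEquivalence :=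
    Functor.isEquivalence_of_iso (Scheme.Modules.pushforwardId S).symm
  rw [Adjunction.homEquiv_counit]
  infer_instance

end Groth.Agent.CohBC
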